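import Cfsg.Agent.EqLemmas
import Mathlib.GroupTheory.Solvable
import Mathlib.GroupTheory.QuotientGroup.Basic
import Mathlib.Tactic

/-!
# Lifts of an almost simple group by an odd soluble kernel (helper90)

`notes/sd_regularity_lemma_helper90.md`.  `Frame G`: `G` has a simple normal subgroup `L` of index two with
trivial centraliser, an involution `z` outside and an element `e` of `L` of odd prime order centralised by `z`.
`Lift D Γ`: a surjection onto `G` with odd soluble kernel and commuting lifts `Z`, `E` of `z`, `e`.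
`res Γ` is the last term of the derived series.  `res_le` : a subgroup normalised by `res Γ` that contains `Z` or
`E` contains `res Γ`.
-/

set_option autoImplicit false

open scoped commutatorElement

namespace Cfsg.Agent.SDKeystone.NoTorus

open Subgroup

/-- The last term of the derived series. -/
def res (Γ : Type*) [Group Γ] : Subgroup Γ := ⨅ n, derivedSeries Γ n

section Residual

variable {Γ : Type*} [Group Γ]

theorem res_le_series (n : ℕ) : res Γ ≤ derivedSeries Γ n := iInf_le _ n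

theorem le_res_of_perfect {P : Subgroup Γ} (hP : ⁅P, P⁆ = P) : P ≤ res Γ := by
  refine le_iInf fun n => ?_
  induction n with
  | zero => exact le_top
  | succ n ih =>
    rw [derivedSeries_succ, ← hP]
    exact commutator_mono ih ih

theorem exists_res_eq (Γ : Type*) [Group Γ] [Finite Γ] :
    ∃ n, res Γ = derivedSeries Γ n ∧ ∀ m, n ≤ m → derivedSeries Γ m = derivedSeries Γ n := by
  obtain ⟨n, hn⟩ : ∃ n, ∀ m, Nat.card ↥(derivedSeries Γ n) ≤ Nat.card ↥(derivedSeries Γ m) :=
    ⟨Function.argmin (fun m => Nat.card ↥(derivedSeries Γ m)),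
      fun m => Function.argmin_le (fun m => Nat.card ↥(derivedSeries Γ m)) m⟩
  have h : ∀ m, n ≤ m → derivedSeries Γ m = derivedSeries Γ n := fun m hm =>
    eq_of_le_of_card_ge (derivedSeries_antitone Γ hm) (hn m)
  refine ⟨n, le_antisymm (iInf_le _ n) (le_iInf fun m => ?_), h⟩
  rcases le_total n m with hm | hm
  · exact (h m hm).ge
  · exact derivedSeries_antitone Γ hm

theorem res_perfect [Finite Γ] : ⁅res Γ, res Γ⁆ = res Γ := by
  obtain ⟨n, h1, h2⟩ := exists_res_eq Γ
  rw [h1, ← derivedSeries_succ, h2 _ n.le_succ]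

instance res_normal : (res Γ).Normal :=
  ⟨fun x hx g => mem_iInf.2 fun n => (derivedSeries_normal Γ n).conj_mem x (mem_iInf.1 hx n) g⟩

theorem map_res_le {Γ' : Type*} [Group Γ'] (f : Γ →* Γ') : (res Γ).map f ≤ res Γ' :=
  le_iInf fun n => (map_mono (res_le_series n)).trans (map_derivedSeries_le_derivedSeries f n)

/-- A perfect subgroup covered by a normalised subgroup and a soluble normal subgroup lies in the former. -/
theorem le_of_le_sup_solvable {P M S : Subgroup Γ} (hP : ⁅P, P⁆ = P) (hMP : M ≤ P)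
    (hM : ∀ x ∈ P, ∀ m ∈ M, x * m * x⁻¹ ∈ M) [S.Normal] [Group.IsSolvable S] (h : P ≤ M ⊔ S) : P ≤ M := by
  have : (M.subgroupOf P).Normal := ⟨fun m hm g => hM g g.2 m hm⟩
  let q : P →* P ⧸ M.subgroupOf P := QuotientGroup.mk' _
  let f : ↥(P ⊓ S) →* P ⧸ M.subgroupOf P := q.comp (inclusion inf_le_left)
  have hf : Function.Surjective f := by
    intro y
    obtain ⟨x, rfl⟩ := QuotientGroup.mk'_surjective _ y
    obtain ⟨m, hm, s, hs, hx⟩ := mem_sup_of_normal_right.1 (h x.2)
    have hs' : s ∈ P := by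
      rw [show s = m⁻¹ * (x : Γ) by rw [← hx, inv_mul_cancel_left]]
      exact mul_mem (inv_mem (hMP hm)) x.2
    refine ⟨⟨s, hs', hs⟩, ?_⟩
    refine QuotientGroup.eq.2 (mem_subgroupOf.2 ?_)
    show s⁻¹ * (x : Γ) ∈ M
    rw [← hx, ← mul_assoc]
    simpa using hM s⁻¹ (inv_mem hs') m hm
  have : Group.IsSolvable ↥(P ⊓ S) :=
    Group.isSolvable_of_isSolvable_injective (f := inclusion (inf_le_right : P ⊓ S ≤ S)) (inclusion_injective _)
  have hsol : Group.IsSolvable (P ⧸ M.subgroupOf P) := Group.isSolvable_of_surjective hf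
  have hperf : commutator P = ⊤ := by
    apply map_injective P.subtype_injective
    rw [_root_.commutator_def, map_commutator, ← MonoidHom.range_eq_map, range_subtype, hP]
  intro x hx
  by_contra hne
  have : Nontrivial (P ⧸ M.subgroupOf P) := by
    refine ⟨⟨q ⟨x, hx⟩, 1, fun e => hne ?_⟩⟩
    exact mem_subgroupOf.1 ((QuotientGroup.eq_one_iff _).1 e)
  refine (Group.IsSolvable.commutator_lt_top_of_nontrivial (P ⧸ M.subgroupOf P)).ne ?_
  rw [_root_.commutator_def, ← map_top_of_surjective q (QuotientGroup.mk'_surjective _), ← map_commutator,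
    ← _root_.commutator_def, hperf]

/-- A perfect subgroup of `H` lies in the residual of `H`. -/
theorem le_map_res {P H : Subgroup Γ} (hP : ⁅P, P⁆ = P) (hPH : P ≤ H) : P ≤ (res H).map H.subtype := by
  have hperf : ⁅P.subgroupOf H, P.subgroupOf H⁆ = P.subgroupOf H := by
    apply map_injective H.subtype_injective
    rw [map_commutator, map_subgroupOf_eq_of_le hPH, hP]
  have := map_mono (f := H.subtype) (le_res_of_perfect hperf)
  rwa [map_subgroupOf_eq_of_le hPH] at this

end Residual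

/-- The almost simple group below. -/
structure Frame (G : Type*) [Group G] where
  /-- the simple normal subgroup -/
  L : Subgroup G
  normal : L.Normal
  perfect : ⁅L, L⁆ = L
  simple : ∀ M : Subgroup G, M ≤ L → (∀ g ∈ L, ∀ m ∈ M, g * m * g⁻¹ ∈ M) → M = ⊥ ∨ M = L
  cent : ∀ g : G, (∀ x ∈ L, g * x = x * g) → g = 1
  /-- the outer involution -/
  z : G
  /-- the torus element -/
  e : G
  /-- its order -/
  s : ℕ
  zz : z * z = 1
  z_notMem : z ∉ L
  top : ∀ g : G, g ∈ L ∨ g * z ∈ L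
  ze : Commute z e
  e_mem : e ∈ L
  e_ne : e ≠ 1
  s_prime : s.Prime
  s_ne_two : s ≠ 2
  e_pow : e ^ s = 1

namespace Frame

variable {G : Type*} [Group G] (D : Frame G)

theorem z_ne : D.z ≠ 1 := fun h => D.z_notMem (h ▸ one_mem _)

theorem commutator_le : commutator G ≤ D.L := by
  have := D.normal
  have key : ∀ g : G, g ∉ D.L → g * D.z ∈ D.L := fun g h => (D.top g).resolve_left h
  rw [_root_.commutator_def]
  refine Subgroup.commutator_le.2 fun a _ b _ => ?_
  rw [← QuotientGroup.eq_one_iff, ← QuotientGroup.mk'_apply, map_commutatorElement,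
    commutatorElement_eq_one_iff_commute]
  have h : ∀ g : G, QuotientGroup.mk' D.L g = 1 ∨ QuotientGroup.mk' D.L g = (QuotientGroup.mk' D.L D.z)⁻¹ := by
    intro g
    rcases D.top g with h | h
    · exact Or.inl ((QuotientGroup.eq_one_iff _).2 h)
    · refine Or.inr (eq_inv_of_mul_eq_one_left ?_)
      rw [← map_mul]
      exact (QuotientGroup.eq_one_iff _).2 h
  rcases h a with ha | ha <;> rcases h b with hb | hb <;> rw [ha, hb]
  all_goals first
    | exact Commute.one_left _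
    | exact Commute.one_right _

theorem res_eq [Finite G] : res G = D.L :=
  le_antisymm ((res_le_series 1).trans (by rw [derivedSeries_one]; exact D.commutator_le))
    (le_res_of_perfect D.perfect)

end Frame

/-- Commuting lifts of `z` and `e` in an extension with odd soluble kernel. -/
structure Lift {G : Type*} [Group G] (D : Frame G) (Γ : Type*) [Group Γ] where
  /-- the projection -/
  π : Γ →* G
  surj : Function.Surjective π
  odd : Odd (Nat.card π.ker)
  solv : Group.IsSolvable π.ker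
  /-- the lift of `z` -/
  Z : Γ
  /-- the lift of `e` -/
  E : Γ
  π_Z : π Z = D.z
  π_E : π E = D.e
  ZZ : Z * Z = 1
  ZE : Commute Z E
  E_pow : ∃ j : ℕ, E ^ D.s ^ j = 1

namespace Lift

variable {G : Type*} [Group G] {D : Frame G} {Γ : Type*} [Group Γ] (Λ : Lift D Γ)

theorem Z_inv : Λ.Z⁻¹ = Λ.Z := inv_eq_of_mul_eq_one_right Λ.ZZ

theorem E_odd : Odd (orderOf Λ.E) := by
  obtain ⟨j, hj⟩ := Λ.E_pow
  exact (D.s_prime.odd_of_ne_two D.s_ne_two).pow.of_dvd_nat (orderOf_dvd_of_pow_eq_one hj)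

variable [Finite Γ]

theorem map_res : (res Γ).map Λ.π = D.L := by
  obtain ⟨n, h1, h2⟩ := exists_res_eq Γ
  refine le_antisymm ((map_mono (res_le_series 1)).trans ?_) ?_
  · exact (map_derivedSeries_le_derivedSeries Λ.π 1).trans (by rw [derivedSeries_one]; exact D.commutator_le)
  · rw [h1, map_derivedSeries_eq Λ.surj]
    exact (le_res_of_perfect D.perfect).trans (res_le_series n)

theorem exists_mem_res {x : G} (hx : x ∈ D.L) : ∃ k ∈ res Γ, Λ.π k = x := by
  rw [← Λ.map_res] at hx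
  exact hx

theorem π_res {k : Γ} (hk : k ∈ res Γ) : Λ.π k ∈ D.L := Λ.map_res ▸ mem_map_of_mem _ hk

/-- A subgroup normalised by the residual and covering `L` contains the residual. -/
theorem res_le_of_covers {M : Subgroup Γ} (hM : ∀ k ∈ res Γ, ∀ m ∈ M, k * m * k⁻¹ ∈ M)
    (hc : D.L ≤ M.map Λ.π) : res Γ ≤ M := by
  have hcov : D.L ≤ (M ⊓ res Γ).map Λ.π := by
    conv_lhs => rw [← D.perfect]
    refine Subgroup.commutator_le.2 fun a ha b hb => ?_
    obtain ⟨m, hm, rfl⟩ := hc ha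
    obtain ⟨k, hk, rfl⟩ := Λ.exists_mem_res hb
    refine ⟨⁅m, k⁆, mem_inf.2 ⟨?_, ?_⟩, map_commutatorElement _ _ _⟩
    · rw [commutatorElement_def, mul_assoc, mul_assoc, ← mul_assoc k]
      exact mul_mem hm (hM k hk _ (inv_mem hm))
    · rw [commutatorElement_def]
      exact mul_mem (res_normal.conj_mem k hk m) (inv_mem hk)
  have := Λ.solv
  refine le_trans (le_of_le_sup_solvable (P := res Γ) (M := M ⊓ res Γ) (S := Λ.π.ker) res_perfect
    inf_le_right (fun x hx m hm => ⟨hM x hx m hm.1, res_normal.conj_mem m hm.2 x⟩) ?_) inf_le_left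
  intro k hk
  obtain ⟨m, hm, e⟩ := hcov (Λ.π_res hk)
  rw [← mul_inv_cancel_left m k]
  exact mul_mem_sup hm (by rw [MonoidHom.mem_ker, map_mul, map_inv, e, inv_mul_cancel])

/-- A subgroup normalised by the residual that is not in the kernel contains the residual. -/
theorem res_le_of_map_ne {M : Subgroup Γ} (hM : ∀ k ∈ res Γ, ∀ m ∈ M, k * m * k⁻¹ ∈ M)
    {m₀ : Γ} (hm₀ : m₀ ∈ M) (h : Λ.π m₀ ≠ 1) : res Γ ≤ M := by
  have := D.normal
  have hnorm : ∀ x ∈ D.L, ∀ y ∈ M.map Λ.π, x * y * x⁻¹ ∈ M.map Λ.π := by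
    intro x hx y hy
    obtain ⟨k, hk, rfl⟩ := Λ.exists_mem_res hx
    obtain ⟨m, hm, rfl⟩ := hy
    exact ⟨k * m * k⁻¹, hM k hk m hm, by rw [map_mul, map_mul, map_inv]⟩
  rcases D.simple (M.map Λ.π ⊓ D.L) inf_le_right
      (fun x hx y hy => ⟨hnorm x hx y hy.1, D.normal.conj_mem y hy.2 x⟩) with hb | hb
  · have key : ∀ y ∈ M.map Λ.π, y = 1 := by
      intro y hy
      refine D.cent y fun x hx => ?_
      have h1 : y * x * y⁻¹ * x⁻¹ ∈ M.map Λ.π ⊓ D.L :=
        ⟨by
          rw [mul_assoc, mul_assoc, ← mul_assoc x]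
          exact mul_mem hy (hnorm x hx y⁻¹ ((M.map Λ.π).inv_mem hy)),
        D.L.mul_mem (D.normal.conj_mem x hx y) (D.L.inv_mem hx)⟩
      rw [hb, mem_bot] at h1
      calc y * x = (y * x * y⁻¹ * x⁻¹) * (x * y) := by group
        _ = x * y := by rw [h1, one_mul]
    exact absurd (key _ ⟨_, hm₀, rfl⟩) h
  · exact Λ.res_le_of_covers hM (hb ▸ inf_le_left)

/-- A subgroup normalised by the residual that contains `Z` or `E` contains the residual. -/
theorem res_le {M : Subgroup Γ} (hM : ∀ k ∈ res Γ, ∀ m ∈ M, k * m * k⁻¹ ∈ M)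
    (h : Λ.Z ∈ M ∨ Λ.E ∈ M) : res Γ ≤ M := by
  rcases h with h | h
  · exact Λ.res_le_of_map_ne hM h (by rw [Λ.π_Z]; exact D.z_ne)
  · exact Λ.res_le_of_map_ne hM h (by rw [Λ.π_E]; exact D.e_ne)

theorem res_ne_bot (Λ : Lift D Γ) : res Γ ≠ ⊥ := by
  intro h
  have := Λ.map_res
  rw [h, Subgroup.map_bot] at this
  have h2 := D.e_mem
  rw [← this, mem_bot] at h2
  exact D.e_ne h2

/-- The lift on a subgroup that contains the residual, `Z` and `E`. -/
noncomputable def sub (H : Subgroup Γ) (hH : res Γ ≤ H) (hZ : Λ.Z ∈ H) (hE : Λ.E ∈ H) :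
    Lift D H where
  π := Λ.π.comp H.subtype
  surj g := by
    rcases D.top g with h | h
    · obtain ⟨k, hk, e⟩ := Λ.exists_mem_res h
      exact ⟨⟨k, hH hk⟩, e⟩
    · obtain ⟨k, hk, e⟩ := Λ.exists_mem_res h
      refine ⟨⟨k * Λ.Z, mul_mem (hH hk) hZ⟩, ?_⟩
      show Λ.π (k * Λ.Z) = g
      rw [map_mul, e, Λ.π_Z, mul_assoc, D.zz, mul_one]
  odd := by
    refine Λ.odd.of_dvd_nat ?_
    refine card_dvd_of_injective ((H.subtype.comp (Λ.π.comp H.subtype).ker.subtype).codRestrict Λ.π.ker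
      (fun x => x.2)) (fun a b h => ?_)
    exact Subtype.ext (Subtype.ext (congrArg (fun y : Λ.π.ker => (y : Γ)) h))
  solv := by
    have := Λ.solv
    refine Group.isSolvable_of_isSolvable_injective
      (f := (H.subtype.comp (Λ.π.comp H.subtype).ker.subtype).codRestrict Λ.π.ker (fun x => x.2))
      (fun a b h => ?_)
    exact Subtype.ext (Subtype.ext (congrArg (fun y : Λ.π.ker => (y : Γ)) h))
  Z := ⟨Λ.Z, hZ⟩
  E := ⟨Λ.E, hE⟩
  π_Z := Λ.π_Z
  π_E := Λ.π_E
  ZZ := Subtype.ext Λ.ZZ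
  ZE := Subtype.ext Λ.ZE.eq
  E_pow := Λ.E_pow.imp fun _ h => Subtype.ext h

/-- The lift on a quotient by part of the kernel. -/
noncomputable def quot (M : Subgroup Γ) [M.Normal] (hM : M ≤ Λ.π.ker) :
    Lift D (Γ ⧸ M) where
  π := QuotientGroup.lift M Λ.π hM
  surj g := by
    obtain ⟨x, rfl⟩ := Λ.surj g
    exact ⟨(x : Γ ⧸ M), rfl⟩
  odd := by
    refine Λ.odd.of_dvd_nat ?_
    refine card_dvd_of_surjective (((QuotientGroup.mk' M).comp Λ.π.ker.subtype).codRestrict
      (QuotientGroup.lift M Λ.π hM).ker (fun x => x.2)) ?_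
    rintro ⟨y, hy⟩
    obtain ⟨x, rfl⟩ := QuotientGroup.mk'_surjective M y
    exact ⟨⟨x, hy⟩, Subtype.ext rfl⟩
  solv := by
    have := Λ.solv
    refine Group.isSolvable_of_surjective (f := ((QuotientGroup.mk' M).comp Λ.π.ker.subtype).codRestrict
      (QuotientGroup.lift M Λ.π hM).ker (fun x => x.2)) ?_
    rintro ⟨y, hy⟩
    obtain ⟨x, rfl⟩ := QuotientGroup.mk'_surjective M y
    exact ⟨⟨x, hy⟩, Subtype.ext rfl⟩
  Z := (Λ.Z : Γ ⧸ M)
  E := (Λ.E : Γ ⧸ M)
  π_Z := Λ.π_Z
  π_E := Λ.π_E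
  ZZ := by rw [← QuotientGroup.mk_mul, Λ.ZZ, QuotientGroup.mk_one]
  ZE := Λ.ZE.map (QuotientGroup.mk' M)
  E_pow := Λ.E_pow.imp fun j h => by rw [← QuotientGroup.mk_pow, h, QuotientGroup.mk_one]

end Lift

end Cfsg.Agent.SDKeystone.NoTorus
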