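import Cfsg.Agent.EqLemmas
import Mathlib.RepresentationTheory.Basic
import Mathlib.LinearAlgebra.Eigenspace.Triangularizable
import Mathlib.LinearAlgebra.Eigenspace.Minpoly
import Mathlib.Algebra.Module.LinearMap.End
import Mathlib.Tactic

/-!
# Elementary representation tools for the torus lemma (helper90)

Weights of commuting elements, fixed spaces, and the two-step composition argument for perfect subgroups.
-/

set_option autoImplicit false

open scoped commutatorElement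

namespace Cfsg.Agent.SDKeystone.NoTorus

open Subgroup

variable {k : Type*} [Field k] {Γ : Type*} [Group Γ] {W : Type*} [AddCommGroup W] [Module k W]
  (ρ : Representation k Γ W)

/-- The only invariant subspaces are `⊥` and `⊤`. -/
def Irred : Prop :=
  ∀ U : Submodule k W, (∀ g : Γ, ∀ x ∈ U, ρ g x ∈ U) → U = ⊥ ∨ U = ⊤

theorem rho_mul (g h : Γ) (x : W) : ρ (g * h) x = ρ g (ρ h x) := by rw [map_mul]; rfl

theorem rho_inv_self (g : Γ) (x : W) : ρ g⁻¹ (ρ g x) = x := by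
  rw [← rho_mul, inv_mul_cancel, map_one]; rfl

theorem rho_self_inv (g : Γ) (x : W) : ρ g (ρ g⁻¹ x) = x := by
  rw [← rho_mul, mul_inv_cancel, map_one]; rfl

theorem rho_one (x : W) : ρ 1 x = x := by rw [map_one]; rfl

theorem eq_one_of_forall {g : Γ} (h : ∀ x, ρ g x = x) : ρ g = 1 := LinearMap.ext h

theorem apply_of_eq_one {g : Γ} (h : ρ g = 1) (x : W) : ρ g x = x := by rw [h]; rfl

/-- The fixer of a vector. -/
def fixer (x : W) : Subgroup Γ where
  carrier := {g | ρ g x = x}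
  one_mem' := rho_one ρ x
  mul_mem' := fun {a b} ha hb => by
    show ρ (a * b) x = x
    rw [rho_mul, hb, ha]
  inv_mem' := fun {a} ha => by
    show ρ a⁻¹ x = x
    conv_lhs => rw [← (ha : ρ a x = x)]
    exact rho_inv_self ρ a x

theorem mem_fixer {x : W} {g : Γ} : g ∈ fixer ρ x ↔ ρ g x = x := Iff.rfl

/-- The vectors fixed by a subgroup. -/
def fixedBy (H : Subgroup Γ) : Submodule k W where
  carrier := {x | ∀ h ∈ H, ρ h x = x}
  zero_mem' := fun h _ => map_zero _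
  add_mem' := fun ha hb h hh => by rw [map_add, ha h hh, hb h hh]
  smul_mem' := fun c x hx h hh => by rw [map_smul, hx h hh]

theorem mem_fixedBy {H : Subgroup Γ} {x : W} : x ∈ fixedBy ρ H ↔ ∀ h ∈ H, ρ h x = x := Iff.rfl

/-- A normal subgroup with a fixed vector is trivial on an irreducible module. -/
theorem eq_one_of_fixed {H : Subgroup Γ} [H.Normal] (hirr : Irred ρ) {x : W} (hx : x ≠ 0)
    (h : ∀ g ∈ H, ρ g x = x) : ∀ g ∈ H, ρ g = 1 := by
  have hinv : ∀ g : Γ, ∀ y ∈ fixedBy ρ H, ρ g y ∈ fixedBy ρ H := by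
    intro g y hy a ha
    have h1 := hy _ (‹H.Normal›.conj_mem' a ha g)
    rw [rho_mul, rho_mul] at h1
    conv_rhs => rw [← h1, rho_self_inv]
  rcases hirr _ hinv with hb | ht
  · exact absurd ((Submodule.mem_bot k).1 (hb ▸ (h : x ∈ fixedBy ρ H))) hx
  · exact fun g hg => eq_one_of_forall ρ fun y => (ht ▸ Submodule.mem_top : y ∈ fixedBy ρ H) g hg

/-- A perfect subgroup acting by scalars on a vector fixes it. -/
theorem fixed_of_scalar {P : Subgroup Γ} (hP : ⁅P, P⁆ = P) {x : W}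
    (h : ∀ g ∈ P, ∃ c : k, ρ g x = c • x) : ∀ g ∈ P, ρ g x = x := by
  have key : P ≤ fixer ρ x := by
    rw [← hP]
    refine Subgroup.commutator_le.2 fun a ha b hb => ?_
    obtain ⟨c, hc⟩ := h a ha
    obtain ⟨d, hd⟩ := h b hb
    have e : ρ (a * b) x = ρ (b * a) x := by
      rw [rho_mul, rho_mul, hd, map_smul, hc, map_smul, hd, smul_smul, smul_smul, mul_comm]
    rw [mem_fixer, show ⁅a, b⁆ = a * b * (b * a)⁻¹ by rw [commutatorElement_def]; group, rho_mul]
    obtain ⟨f, hf⟩ := h (b * a)⁻¹ (P.inv_mem (P.mul_mem hb ha))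
    rw [hf, map_smul, e, ← map_smul, ← hf, rho_self_inv]
  exact fun g hg => key hg

/-- A perfect subgroup trivial on an invariant subspace and on the quotient is trivial. -/
theorem eq_one_of_step {P : Subgroup Γ} (hP : ⁅P, P⁆ = P) (U : Submodule k W)
    (hU : ∀ g ∈ P, ∀ x ∈ U, ρ g x = x) (hQ : ∀ g ∈ P, ∀ x, ρ g x - x ∈ U) :
    ∀ g ∈ P, ρ g = 1 := by
  have key : ∀ a ∈ P, ∀ b ∈ P, ρ (a * b) = ρ (b * a) := by
    intro a ha b hb
    refine LinearMap.ext fun x => ?_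
    have e : ∀ a' ∈ P, ∀ b' ∈ P, ρ (a' * b') x = ρ a' x + ρ b' x - x := by
      intro a' ha' b' hb'
      rw [rho_mul]
      have := hU a' ha' _ (hQ b' hb' x)
      rw [map_sub] at this
      linear_combination (norm := abel) this
    rw [e a ha b hb, e b hb a ha]
    abel
  have : P ≤ ρ.ker := by
    rw [← hP]
    refine Subgroup.commutator_le.2 fun a ha b hb => ?_
    rw [MonoidHom.mem_ker, show ⁅a, b⁆ = a * b * (b * a)⁻¹ by rw [commutatorElement_def]; group, map_mul,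
      key a ha b hb, ← map_mul, mul_inv_cancel, map_one]
  exact fun g hg => MonoidHom.mem_ker.1 (this hg)

section Weights

variable (A : Subgroup Γ)

/-- The weight space of `χ`. -/
def wspace (χ : A → k) : Submodule k W :=
  ⨅ a : A, Module.End.eigenspace (ρ (a : Γ)) (χ a)

theorem mem_wspace {χ : A → k} {x : W} : x ∈ wspace ρ A χ ↔ ∀ a : A, ρ (a : Γ) x = χ a • x := by
  simp [wspace, Submodule.mem_iInf]

theorem wspace_sum_eq_zero (s : Finset (A → k)) (f : (A → k) → W) (hf : ∀ χ ∈ s, f χ ∈ wspace ρ A χ)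
    (h : ∑ χ ∈ s, f χ = 0) : ∀ χ ∈ s, f χ = 0 := by
  classical
  induction s using Finset.strongInduction generalizing f with
  | _ s ih =>
    intro χ hχ
    by_contra hne
    obtain ⟨ψ, hψ, hψne⟩ : ∃ ψ ∈ s, ψ ≠ χ := by
      by_contra hc
      push Not at hc
      apply hne
      rw [← h, Finset.sum_eq_single χ (fun ψ hψ hn => absurd (hc ψ hψ) hn) (fun hn => absurd hχ hn)]
    obtain ⟨a, ha⟩ := Function.ne_iff.1 hψne
    have h1 := congrArg (ρ (a : Γ)) h
    rw [map_sum, map_zero] at h1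
    have h2 : ∑ φ ∈ s, (φ a - ψ a) • f φ = 0 := by
      simp only [sub_smul, Finset.sum_sub_distrib, ← Finset.smul_sum, h, smul_zero, sub_zero]
      rw [← h1]
      exact Finset.sum_congr rfl fun φ hφ => ((mem_wspace ρ A).1 (hf φ hφ) a).symm
    have h3 := ih (s.erase ψ) (Finset.erase_ssubset hψ) (fun φ => (φ a - ψ a) • f φ)
      (fun φ hφ => Submodule.smul_mem _ _ (hf φ (Finset.mem_of_mem_erase hφ)))
      (by rw [Finset.sum_erase _ (by simp)]; exact h2) χ (Finset.mem_erase.2 ⟨hψne.symm, hχ⟩)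
    exact hne ((smul_eq_zero.1 h3).resolve_left (sub_ne_zero.2 (Ne.symm ha)))

/-- In a vanishing sum, a term whose weight occurs only once vanishes. -/
theorem eq_zero_of_sum {ι : Type*} [Fintype ι] (ψ : ι → (A → k)) (f : ι → W)
    (hf : ∀ i, f i ∈ wspace ρ A (ψ i)) (h : ∑ i, f i = 0) {i₀ : ι} (hu : ∀ j, ψ j = ψ i₀ → j = i₀) :
    f i₀ = 0 := by
  classical
  have := wspace_sum_eq_zero ρ A (Finset.univ.image ψ) (fun χ => ∑ i ∈ Finset.univ with ψ i = χ, f i)
    (fun χ _ => Submodule.sum_mem _ fun i hi => (Finset.mem_filter.1 hi).2 ▸ hf i)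
    (by rw [Finset.sum_fiberwise_of_maps_to (fun i _ => Finset.mem_image_of_mem ψ (Finset.mem_univ i))]; exact h)
    (ψ i₀) (Finset.mem_image_of_mem ψ (Finset.mem_univ i₀))
  exact (Finset.sum_eq_single (s := Finset.univ.filter fun i => ψ i = ψ i₀) (f := f) i₀ (fun j hj hne => absurd (hu j (Finset.mem_filter.1 hj).2) hne)
    (fun hn => (hn (Finset.mem_filter.2 ⟨Finset.mem_univ i₀, rfl⟩)).elim)).symm.trans this

theorem weight_one {χ : A → k} {x : W} (hx : x ≠ 0) (h : x ∈ wspace ρ A χ) : χ 1 = 1 := by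
  refine smul_left_injective k hx ?_
  show χ 1 • x = (1 : k) • x
  rw [one_smul, ← (mem_wspace ρ A).1 h 1, OneMemClass.coe_one, rho_one]

theorem weight_mul {χ : A → k} {x : W} (hx : x ≠ 0) (h : x ∈ wspace ρ A χ) (a b : A) :
    χ (a * b) = χ a * χ b := by
  refine smul_left_injective k hx ?_
  show χ (a * b) • x = (χ a * χ b) • x
  rw [← (mem_wspace ρ A).1 h (a * b), Subgroup.coe_mul, rho_mul, (mem_wspace ρ A).1 h b, map_smul,
    (mem_wspace ρ A).1 h a, smul_smul, mul_comm]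

theorem weight_pow {χ : A → k} {x : W} (hx : x ≠ 0) (h : x ∈ wspace ρ A χ) (a : A) (i : ℕ) :
    χ (a ^ i) = χ a ^ i := by
  induction i with
  | zero => rw [pow_zero, pow_zero, weight_one ρ A hx h]
  | succ i hi => rw [pow_succ, pow_succ, weight_mul ρ A hx h, hi]

theorem weight_unique {χ ψ : A → k} {x : W} (hx : x ≠ 0) (h1 : x ∈ wspace ρ A χ) (h2 : x ∈ wspace ρ A ψ) :
    χ = ψ :=
  funext fun a => smul_left_injective k hx
    (((mem_wspace ρ A).1 h1 a).symm.trans ((mem_wspace ρ A).1 h2 a))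

/-- A normalising element permutes the weight spaces. -/
theorem map_wspace {g : Γ} (hg : ∀ a : A, g⁻¹ * a * g ∈ A) {χ : A → k} {x : W}
    (hx : x ∈ wspace ρ A χ) :
    ρ g x ∈ wspace ρ A (fun a => χ ⟨g⁻¹ * a * g, hg a⟩) := by
  refine (mem_wspace ρ A).2 fun a => ?_
  have h := (mem_wspace ρ A).1 hx ⟨g⁻¹ * a * g, hg a⟩
  rw [← rho_mul, show (a : Γ) * g = g * (g⁻¹ * a * g) by group, rho_mul, h, map_smul]

theorem exists_weight [IsAlgClosed k] [FiniteDimensional k W] (hA : ∀ a ∈ A, ∀ b ∈ A, a * b = b * a)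
    {U : Submodule k W} (hU : ∀ a ∈ A, ∀ x ∈ U, ρ a x ∈ U) (hne : U ≠ ⊥) :
    ∃ χ : A → k, ∃ x ∈ U, x ≠ 0 ∧ x ∈ wspace ρ A χ := by
  induction h : Module.finrank k U using Nat.strong_induction_on generalizing U with
  | _ n ih =>
    by_cases hs : ∀ a : A, ∃ c : k, ∀ x ∈ U, ρ (a : Γ) x = c • x
    · choose χ hχ using hs
      obtain ⟨x, hxU, hx⟩ := U.ne_bot_iff.1 hne
      exact ⟨χ, x, hxU, hx, (mem_wspace ρ A).2 fun a => hχ a x hxU⟩
    push Not at hs
    obtain ⟨a, ha⟩ := hs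
    have : Nontrivial U := Submodule.nontrivial_iff_ne_bot.2 hne
    obtain ⟨c, hc⟩ := Module.End.exists_eigenvalue ((ρ (a : Γ)).restrict (hU a a.2))
    obtain ⟨⟨x₀, hx₀U⟩, hx₀, hx₀ne⟩ := hc.exists_hasEigenvector
    have hx₀' : ρ (a : Γ) x₀ = c • x₀ := congrArg Subtype.val (Module.End.mem_eigenspace_iff.1 hx₀)
    let U' : Submodule k W := U ⊓ Module.End.eigenspace (ρ (a : Γ)) c
    have hlt : U' < U := lt_of_le_of_ne inf_le_left fun e => by
      obtain ⟨x, hx, hx'⟩ := ha c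
      exact hx' (Module.End.mem_eigenspace_iff.1 (Submodule.mem_inf.1 (e ▸ hx : x ∈ U')).2)
    have hU' : ∀ b ∈ A, ∀ x ∈ U', ρ b x ∈ U' := fun b hb x hx => Submodule.mem_inf.2
      ⟨hU b hb x (Submodule.mem_inf.1 hx).1, Module.End.mem_eigenspace_iff.2 (by
        rw [← rho_mul, hA _ a.2 b hb, rho_mul, Module.End.mem_eigenspace_iff.1 (Submodule.mem_inf.1 hx).2,
          map_smul])⟩
    have hne' : U' ≠ ⊥ := fun e => hx₀ne (Subtype.ext ((Submodule.mem_bot k).1
      (e ▸ Submodule.mem_inf.2 ⟨hx₀U, Module.End.mem_eigenspace_iff.2 hx₀'⟩)))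
    obtain ⟨χ, x, hxU', hx⟩ := ih _ (h ▸ Submodule.finrank_lt_finrank_of_lt hlt) hU' hne' rfl
    exact ⟨χ, x, (Submodule.mem_inf.1 hxU').1, hx⟩

/-- An element of order prime to the characteristic that moves an invariant subspace has a weight `≠ 1` there. -/
theorem exists_weight_ne_one [IsAlgClosed k] [FiniteDimensional k W]
    (hA : ∀ a ∈ A, ∀ b ∈ A, a * b = b * a) {U : Submodule k W} (hU : ∀ a ∈ A, ∀ x ∈ U, ρ a x ∈ U)
    {v : Γ} (hv : v ∈ A) {n : ℕ} (hn : v ^ n = 1) (hnk : (n : k) ≠ 0)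
    {x₀ : W} (hx₀ : x₀ ∈ U) (hmove : ρ v x₀ ≠ x₀) :
    ∃ χ : A → k, χ ⟨v, hv⟩ ≠ 1 ∧ ∃ x ∈ U, x ≠ 0 ∧ x ∈ wspace ρ A χ := by
  set T : W →ₗ[k] W := ρ v - 1 with hT
  have hTa : ∀ y, T y = ρ v y - y := fun y => rfl
  have hU' : ∀ a ∈ A, ∀ x ∈ U.map T, ρ a x ∈ U.map T := by
    rintro a ha _ ⟨y, hy, rfl⟩
    refine ⟨ρ a y, hU a ha y hy, ?_⟩
    rw [hTa, hTa, map_sub, ← rho_mul, hA v hv a ha, rho_mul]
  have hne : U.map T ≠ ⊥ := fun e => hmove (sub_eq_zero.1 ((Submodule.mem_bot k).1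
    (e ▸ Submodule.mem_map_of_mem (f := T) hx₀)))
  obtain ⟨χ, x, hxU, hx, hxw⟩ := exists_weight ρ A hA hU' hne
  obtain ⟨y, hy, rfl⟩ := hxU
  refine ⟨χ, fun h1 => hx ?_, T y, ?_, hx, hxw⟩
  · have hfix : ρ v (T y) = T y := by
      have := (mem_wspace ρ A).1 hxw ⟨v, hv⟩
      rwa [h1, one_smul] at this
    have hpow : ∀ i : ℕ, ρ (v ^ i) y = y + (i : k) • T y := by
      intro i
      induction i with
      | zero => simp
      | succ i hi =>
        rw [pow_succ', rho_mul, hi, map_add, map_smul, hfix, Nat.cast_succ, add_smul, one_smul, hTa]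
        abel
    have := hpow n
    rw [hn, rho_one, left_eq_add] at this
    exact (smul_eq_zero.1 this).resolve_left hnk
  · rw [hTa]
    exact U.sub_mem (hU v hv y hy) hy

end Weights

end Cfsg.Agent.SDKeystone.NoTorus
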