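import Cfsg.Agent.EqLemmas
import Cfsg.Agent.Lib.SDKeystone.NoTorus.Frame
import Cfsg.Agent.Lib.SDKeystone.NoTorus.Linear
import Mathlib.LinearAlgebra.FiniteDimensional.Lemmas
import Mathlib.LinearAlgebra.Dual.Lemmas

/-!
# The torus lemma when the residual centralises the kernel (helper90)

`RootPlus`: a root group inverted by `z` on which `e` is fixed-point-free (`d = +1`).
`RootMinus`: a split torus element `a = c * c`, inverted by `z`, semiregular on a root group, such that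
`L` lies in every subgroup containing `e` normalised by `a` (`d = -1`).
-/

set_option autoImplicit false

open scoped commutatorElement

namespace Cfsg.Agent.SDKeystone.NoTorus

open Subgroup

/-- The data for `d = +1`. -/
structure RootPlus {G : Type*} [Group G] (D : Frame G) (p : ℕ) where
  /-- the root group -/
  V : Subgroup G
  le : V ≤ D.L
  ne_bot : V ≠ ⊥
  comm : ∀ u ∈ V, ∀ v ∈ V, u * v = v * u
  pow : ∀ v ∈ V, v ^ p = 1
  z_inv : ∀ v ∈ V, D.z * v * D.z = v⁻¹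
  e_norm : D.e ∈ normalizer (V : Set G)
  e_fpf : ∀ v ∈ V, D.e * v = v * D.e → v = 1

/-- The data for `d = -1`. -/
structure RootMinus {G : Type*} [Group G] (D : Frame G) (p : ℕ) where
  /-- the root group -/
  V : Subgroup G
  le : V ≤ D.L
  ne_bot : V ≠ ⊥
  comm : ∀ u ∈ V, ∀ v ∈ V, u * v = v * u
  pow : ∀ v ∈ V, v ^ p = 1
  /-- the torus element -/
  a : G
  /-- a square root of `a` -/
  c : G
  /-- the order of `a` -/
  m : ℕ
  c_sq : c * c = a
  z_inv : D.z * c * D.z = c⁻¹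
  a_mem : a ∈ D.L
  m_even : Even m
  m_pos : 0 < m
  a_pow : a ^ m = 1
  a_norm : a ∈ normalizer (V : Set G)
  a_fpf : ∀ i : ℕ, 0 < i → i < m → ∀ v ∈ V, a ^ i * v = v * a ^ i → v = 1
  gen : ∀ H : Subgroup G, D.e ∈ H → (∀ h ∈ H, a * h * a⁻¹ ∈ H) → D.L ≤ H

/-- One of the two kinds of root data. -/
def RootData {G : Type*} [Group G] (D : Frame G) (p : ℕ) : Prop :=
  Nonempty (RootPlus D p) ∨ Nonempty (RootMinus D p)

namespace Lift

variable {G : Type*} [Group G] {D : Frame G} {Γ : Type*} [Group Γ] [Finite Γ] (Λ : Lift D Γ)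

omit [Finite Γ] in
theorem eq_of_π (hinj : res Γ ⊓ Λ.π.ker = ⊥) {x y : Γ} (hx : x ∈ res Γ) (hy : y ∈ res Γ)
    (h : Λ.π x = Λ.π y) : x = y := by
  have : x⁻¹ * y ∈ res Γ ⊓ Λ.π.ker :=
    mem_inf.2 ⟨mul_mem (inv_mem hx) hy, by rw [MonoidHom.mem_ker, map_mul, map_inv, h, inv_mul_cancel]⟩
  rwa [hinj, mem_bot, inv_mul_eq_one] at this

/-- A covering subgroup contains the residual, when the residual centralises the kernel. -/
theorem res_le_of_covers' (hinj : res Γ ⊓ Λ.π.ker = ⊥) {H : Subgroup Γ} (hc : D.L ≤ H.map Λ.π) :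
    res Γ ≤ H := by
  obtain ⟨n, hn, -⟩ := exists_res_eq H
  have hcov : ∀ i, D.L ≤ ((derivedSeries H i).map H.subtype).map Λ.π := by
    intro i
    induction i with
    | zero => rwa [derivedSeries_zero, ← MonoidHom.range_eq_map, range_subtype]
    | succ i ih =>
      rw [derivedSeries_succ, map_commutator, map_commutator, ← D.perfect]
      exact commutator_mono ih ih
  intro x hx
  obtain ⟨y, hy, e⟩ := hcov n (Λ.π_res hx)
  have hy' : y ∈ res Γ := map_res_le H.subtype (hn ▸ hy)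
  obtain rfl := Λ.eq_of_π hinj hy' hx e
  obtain ⟨w, -, rfl⟩ := hy
  exact w.2

end Lift

variable {k : Type*} [Field k] [IsAlgClosed k] {G : Type*} [Group G] {D : Frame G} {p : ℕ}
  {Γ : Type*} [Group Γ] [Finite Γ] (Λ : Lift D Γ) {W : Type*} [AddCommGroup W] [Module k W]
  [FiniteDimensional k W] (ρ : Representation k Γ W)

omit [IsAlgClosed k] [FiniteDimensional k W] in
/-- If the lifted root group is trivial on `W`, so is the residual. -/
theorem res_trivial_of_root {V : Subgroup G} (hle : V ≤ D.L) (hne : V ≠ ⊥)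
    (h : ∀ v ∈ res Γ, Λ.π v ∈ V → ρ v = 1) : ∀ g ∈ res Γ, ρ g = 1 := by
  obtain ⟨x, hx, hx1⟩ : ∃ x ∈ V, x ≠ 1 := by
    obtain ⟨x, hx⟩ := V.ne_bot_iff_exists_ne_one.1 hne
    exact ⟨x, x.2, fun e => hx (Subtype.ext e)⟩
  obtain ⟨v, hv, rfl⟩ := Λ.exists_mem_res (hle hx)
  have hker : res Γ ≤ ρ.ker := Λ.res_le_of_map_ne
    (fun k hk m hm => (inferInstance : ρ.ker.Normal).conj_mem m hm k) (MonoidHom.mem_ker.2 (h v hv hx)) hx1
  exact fun g hg => MonoidHom.mem_ker.1 (hker hg)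

omit [IsAlgClosed k] [FiniteDimensional k W] in
theorem conj_weight_fixed {A : Subgroup Γ} {χ : A → k} {x : W} (hx : x ≠ 0) (hxw : x ∈ wspace ρ A χ)
    (hA : ∀ a ∈ A, ∀ b ∈ A, a * b = b * a) {g : Γ} (hg : ∀ a ∈ A, g⁻¹ * a * g ∈ A)
    (hfpf : ∀ a ∈ A, g⁻¹ * a * g = a → a = 1)
    (h : ∀ a : A, χ ⟨g⁻¹ * a * g, hg a a.2⟩ = χ a) : ∀ a : A, χ a = 1 := by
  let φ : A → A := fun u => ⟨g⁻¹ * u * g * (u : Γ)⁻¹, mul_mem (hg u u.2) (inv_mem u.2)⟩
  have hinj : Function.Injective φ := by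
    intro u w huw
    have e : g⁻¹ * u * g * (u : Γ)⁻¹ = g⁻¹ * w * g * (w : Γ)⁻¹ := congrArg Subtype.val huw
    have hc := hA ((w : Γ)⁻¹) (inv_mem w.2) u u.2
    have e3 : g⁻¹ * ((w : Γ)⁻¹ * u) * g = (w : Γ)⁻¹ * u := by
      calc g⁻¹ * ((w : Γ)⁻¹ * u) * g
          = (g⁻¹ * w * g)⁻¹ * (g⁻¹ * u * g * (u : Γ)⁻¹) * u := by group
        _ = (w : Γ)⁻¹ * u := by rw [e]; group
    exact Subtype.ext (inv_mul_eq_one.1 (hfpf _ (mul_mem (inv_mem w.2) u.2) e3)).symm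
  intro a
  obtain ⟨u, rfl⟩ := (Finite.injective_iff_surjective.1 hinj) a
  have h1 : φ u * u = ⟨g⁻¹ * u * g, hg u u.2⟩ := Subtype.ext (by simp [φ, mul_assoc])
  have h2 := weight_mul ρ A hx hxw (φ u) u
  rw [h1, h u] at h2
  have hu : χ u ≠ 0 := by
    intro h0
    have := weight_mul ρ A hx hxw u⁻¹ u
    rw [inv_mul_cancel, weight_one ρ A hx hxw, h0, mul_zero] at this
    exact one_ne_zero this
  exact mul_right_cancel₀ hu (by rw [one_mul, ← h2])

omit [Finite Γ] [IsAlgClosed k] [FiniteDimensional k W] in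
theorem eq_zero_of_four (A : Subgroup Γ) {ψ₁ ψ₂ ψ₃ ψ₄ : A → k} {x₁ x₂ x₃ x₄ : W}
    (h₁ : x₁ ∈ wspace ρ A ψ₁) (h₂ : x₂ ∈ wspace ρ A ψ₂) (h₃ : x₃ ∈ wspace ρ A ψ₃) (h₄ : x₄ ∈ wspace ρ A ψ₄)
    (h : x₁ + x₂ = x₃ + x₄) (h12 : ψ₁ ≠ ψ₂) (h13 : ψ₁ ≠ ψ₃) (h14 : ψ₁ ≠ ψ₄) : x₁ = 0 := by
  refine eq_zero_of_sum ρ A ![ψ₁, ψ₂, ψ₃, ψ₄] ![x₁, x₂, -x₃, -x₄] (fun i => ?_) ?_ (i₀ := 0) (fun j hj => ?_)
  · fin_cases i
    exacts [h₁, h₂, Submodule.neg_mem _ h₃, Submodule.neg_mem _ h₄]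
  · simp only [Fin.sum_univ_four, Matrix.cons_val]
    linear_combination (norm := abel) h
  · fin_cases j
    exacts [rfl, absurd hj.symm h12, absurd hj.symm h13, absurd hj.symm h14]

theorem plus_case (hinj : res Γ ⊓ Λ.π.ker = ⊥) (P : RootPlus D p) (hp : Odd p) (hpk : (p : k) ≠ 0)
    (hfix : ∀ x, ρ Λ.Z x = x → ρ Λ.E x = x) : ∀ g ∈ res Γ, ρ g = 1 := by
  refine res_trivial_of_root Λ ρ P.le P.ne_bot fun v₀ hv₀ hv₀V => ?_
  by_contra hne
  obtain ⟨x₀, hx₀⟩ : ∃ x, ρ v₀ x ≠ x := by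
    by_contra hc
    push Not at hc
    exact hne (eq_one_of_forall ρ hc)
  set A : Subgroup Γ := res Γ ⊓ P.V.comap Λ.π with hAdef
  have hA : ∀ a ∈ A, ∀ b ∈ A, a * b = b * a := fun a ha b hb =>
    Λ.eq_of_π hinj (mul_mem ha.1 hb.1) (mul_mem hb.1 ha.1) (by rw [map_mul, map_mul, P.comm _ ha.2 _ hb.2])
  have hpow : ∀ a ∈ A, a ^ p = 1 := fun a ha =>
    Λ.eq_of_π hinj (pow_mem ha.1 p) (one_mem _) (by rw [map_pow, P.pow _ ha.2, map_one])
  have hZ : ∀ a ∈ A, a * Λ.Z = Λ.Z * a⁻¹ := by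
    intro a ha
    have h1 : Λ.Z * a * Λ.Z = a⁻¹ := by
      refine Λ.eq_of_π hinj ?_ (inv_mem ha.1) (by rw [map_mul, map_mul, Λ.π_Z, map_inv, P.z_inv _ ha.2])
      have := res_normal.conj_mem a ha.1 Λ.Z
      rwa [Λ.Z_inv] at this
    rw [← h1, mul_assoc, ← mul_assoc, ← mul_assoc, Λ.ZZ, one_mul]
  have hE : ∀ a ∈ A, Λ.E⁻¹ * a * Λ.E ∈ A := by
    intro a ha
    refine mem_inf.2 ⟨res_normal.conj_mem' a ha.1 Λ.E, ?_⟩
    rw [mem_comap, map_mul, map_mul, map_inv, Λ.π_E]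
    exact (mem_normalizer_iff''.1 P.e_norm _).1 ha.2
  have hv₀A : v₀ ∈ A := mem_inf.2 ⟨hv₀, hv₀V⟩
  obtain ⟨χ, hχv, x, -, hx, hxw⟩ := exists_weight_ne_one ρ A hA (U := ⊤) (fun _ _ _ _ => Submodule.mem_top)
    hv₀A (hpow v₀ hv₀A) hpk Submodule.mem_top hx₀
  set ι : A → A := fun a => ⟨Λ.E⁻¹ * a * Λ.E, hE a a.2⟩ with hι
  have hZx : ρ Λ.Z x ∈ wspace ρ A (fun a => χ a⁻¹) := (mem_wspace ρ A).2 fun a => by
    rw [← rho_mul, hZ a a.2, rho_mul, ← InvMemClass.coe_inv, (mem_wspace ρ A).1 hxw a⁻¹, map_smul]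
  have hne' : χ ≠ fun a => χ a⁻¹ := by
    intro e
    have h1 := weight_mul ρ A hx hxw ⟨v₀, hv₀A⟩ ⟨v₀, hv₀A⟩⁻¹
    rw [mul_inv_cancel, weight_one ρ A hx hxw, ← congrFun e ⟨v₀, hv₀A⟩, ← pow_two] at h1
    have h2 := weight_pow ρ A hx hxw ⟨v₀, hv₀A⟩ p
    rw [show (⟨v₀, hv₀A⟩ : A) ^ p = 1 from Subtype.ext (hpow v₀ hv₀A), weight_one ρ A hx hxw] at h2
    obtain ⟨j, rfl⟩ := hp
    rw [pow_succ, pow_mul, ← h1, one_pow, one_mul] at h2
    exact hχv h2.symm
  have hy : ρ Λ.E (x + ρ Λ.Z x) = x + ρ Λ.Z x :=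
    hfix _ (by rw [map_add, ← rho_mul, Λ.ZZ, rho_one, add_comm])
  have hEmem : ∀ (ψ : A → k) (w : W), w ∈ wspace ρ A ψ → ρ Λ.E w ∈ wspace ρ A (fun a => ψ (ι a)) :=
    fun ψ w hw => map_wspace ρ A (fun a => hE a a.2) hw
  have hcase : (fun a => χ (ι a)) = χ ∨ (fun a => χ (ι a)) = fun a => χ a⁻¹ := by
    by_contra hc
    push Not at hc
    have hz := eq_zero_of_four ρ A (hEmem χ x hxw) (hEmem _ _ hZx) hxw hZx
      (by rw [← map_add]; exact hy) (fun e => hne' ?_) hc.1 hc.2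
    swap
    · funext a
      let w : A := ⟨Λ.E * a * Λ.E⁻¹, mem_inf.2 ⟨(res_normal (Γ := Γ)).conj_mem _ a.2.1 Λ.E, by
        rw [mem_comap, map_mul, map_mul, map_inv, Λ.π_E]
        exact (mem_normalizer_iff.1 P.e_norm _).1 a.2.2⟩⟩
      have hw : ι w = a := Subtype.ext (by simp [ι, w, mul_assoc])
      have := congrFun e w
      rwa [hw] at this
    have := rho_inv_self ρ Λ.E x
    rw [hz, map_zero] at this
    exact hx this.symm
  have hEfix : (fun a => χ (ι a)) = χ := by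
    refine hcase.resolve_right fun e => hne' ?_
    have e1 : ∀ a, χ (ι a) = χ a⁻¹ := congrFun e
    have hιinv : ∀ a, ι a⁻¹ = (ι a)⁻¹ := fun a => Subtype.ext (by simp [ι, mul_assoc])
    have h2i : ∀ (i : ℕ) (a : A), χ (ι^[2 * i] a) = χ a := by
      intro i
      induction i with
      | zero => intro a; rfl
      | succ i hi =>
        intro a
        rw [Nat.mul_succ, Function.iterate_add_apply, hi]
        show χ (ι (ι a)) = χ a
        rw [e1, ← hιinv, e1, inv_inv]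
    have hit : ∀ (i : ℕ) (a : A), ((ι^[i] a : A) : Γ) = (Λ.E ^ i)⁻¹ * a * Λ.E ^ i := by
      intro i
      induction i with
      | zero => intro a; simp
      | succ i hi =>
        intro a
        rw [Function.iterate_succ_apply, hi, pow_succ']
        simp only [ι]
        group
    obtain ⟨j, hj⟩ := Λ.E_odd
    funext a
    have hfull : ι^[2 * (j + 1)] a = ι a := by
      refine Subtype.ext ?_
      rw [hit, show 2 * (j + 1) = orderOf Λ.E + 1 by omega, pow_succ, pow_orderOf_eq_one, one_mul]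
    rw [← e1 a, ← hfull, h2i]
  have := conj_weight_fixed ρ hx hxw hA (g := Λ.E) hE (fun a ha h => by
    refine Λ.eq_of_π hinj ha.1 (one_mem _) ?_
    rw [map_one]
    refine P.e_fpf _ ha.2 ?_
    rw [← Λ.π_E, ← map_mul, ← map_mul]
    congr 1
    conv_lhs => rw [← h]
    group) (fun a => congrFun hEfix a) ⟨v₀, hv₀A⟩
  exact hχv this

omit [IsAlgClosed k] in
/-- Vectors fixed by `Z` and by the square of the torus element are fixed by the residual. -/
theorem fixed_by_res (hinj : res Γ ⊓ Λ.π.ker = ⊥) (M : RootMinus D p) {a : Γ} (ha : Λ.π a = M.a)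
    (haZ : Λ.Z * a * Λ.Z = a⁻¹) {V' : Type*} [AddCommGroup V'] [Module k V'] (σ : Representation k Γ V')
    (hfix : ∀ y, σ Λ.Z y = y → σ Λ.E y = y) {y : V'} (h1 : σ Λ.Z y = y) (h2 : σ (a * a) y = y) :
    ∀ g ∈ res Γ, σ g y = y := by
  let H : Subgroup Γ :=
    ⨅ (v : V') (_ : σ Λ.Z v = v ∧ σ (a * a) v = v), fixer σ v
  have hmem : ∀ g, g ∈ H ↔ ∀ v, σ Λ.Z v = v ∧ σ (a * a) v = v → σ g v = v := fun g => by
    simp [H, Subgroup.mem_iInf, mem_fixer]
  have hcov : D.L ≤ H.map Λ.π := by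
    refine M.gen _ ⟨Λ.E, (hmem _).2 fun v hv => hfix v hv.1, Λ.π_E⟩ ?_
    rintro _ ⟨g, hg, rfl⟩
    refine ⟨a * g * a⁻¹, (hmem _).2 fun v hv => ?_, by rw [map_mul, map_mul, map_inv, ha]⟩
    have hZa : Λ.Z * a⁻¹ = a * Λ.Z := by
      rw [← haZ, ← mul_assoc, ← mul_assoc, Λ.ZZ, one_mul]
    have hv' : σ Λ.Z (σ a⁻¹ v) = σ a⁻¹ v ∧ σ (a * a) (σ a⁻¹ v) = σ a⁻¹ v := by
      constructor
      · rw [← rho_mul, hZa, rho_mul, hv.1]
        nth_rewrite 2 [← hv.2]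
        rw [← rho_mul, inv_mul_cancel_left]
      · rw [← rho_mul, show a * a * a⁻¹ = a⁻¹ * (a * a) by group, rho_mul, hv.2]
    rw [rho_mul, rho_mul, (hmem g).1 hg _ hv', rho_self_inv]
  exact fun g hg => (hmem g).1 (Λ.res_le_of_covers' hinj hcov hg) y ⟨h1, h2⟩

theorem minus_case (hinj : res Γ ⊓ Λ.π.ker = ⊥) (M : RootMinus D p) (hpk : (p : k) ≠ 0) (h2 : (2 : k) ≠ 0)
    (hirr : Irred ρ) (hfix : ∀ x, ρ Λ.Z x = x → ρ Λ.E x = x) : ∀ g ∈ res Γ, ρ g = 1 := by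
  by_contra hK
  push Not at hK
  obtain ⟨g₀, hg₀, hg₀ne⟩ := hK
  have hnotriv : ¬ ∀ g ∈ res Γ, ρ g = 1 := fun h => hg₀ne (h g₀ hg₀)
  -- lifts
  obtain ⟨a, ha, haπ⟩ := Λ.exists_mem_res M.a_mem
  obtain ⟨cc, hccπ, hu⟩ : ∃ cc : Γ, Λ.π cc = M.c ∧ Λ.Z * cc⁻¹ * Λ.Z * cc ∈ res Γ := by
    rcases D.top M.c with hc | hc
    · obtain ⟨y, hy, e⟩ := Λ.exists_mem_res hc
      refine ⟨y, e, mul_mem ?_ hy⟩
      have := res_normal.conj_mem _ (inv_mem hy) Λ.Z
      rwa [Λ.Z_inv] at this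
    · obtain ⟨y, hy, e⟩ := Λ.exists_mem_res hc
      refine ⟨y * Λ.Z, by rw [map_mul, e, Λ.π_Z, mul_assoc, D.zz, mul_one], ?_⟩
      rw [show Λ.Z * (y * Λ.Z)⁻¹ * Λ.Z * (y * Λ.Z) = y⁻¹ * (Λ.Z * y * Λ.Z) by
        rw [mul_inv_rev, Λ.Z_inv]; simp only [← mul_assoc, Λ.ZZ, one_mul]]
      refine mul_mem (inv_mem hy) ?_
      have := res_normal.conj_mem _ hy Λ.Z
      rwa [Λ.Z_inv] at this
  have hzc : D.z * M.c⁻¹ * D.z = M.c := by
    have e := congrArg (·⁻¹) M.z_inv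
    simp only [mul_inv_rev, inv_inv] at e
    rw [inv_eq_of_mul_eq_one_right D.zz, ← mul_assoc] at e
    exact e
  have hconj : cc⁻¹ * Λ.Z * cc = Λ.Z * a := by
    have h := Λ.eq_of_π hinj hu ha (by rw [map_mul, map_mul, map_mul, map_inv, Λ.π_Z, hccπ, haπ, hzc, M.c_sq])
    rw [← h, ← mul_assoc, ← mul_assoc, ← mul_assoc, Λ.ZZ, one_mul]
  have haZ : Λ.Z * a * Λ.Z = a⁻¹ := by
    refine Λ.eq_of_π hinj ?_ (inv_mem ha) ?_
    · have := res_normal.conj_mem a ha Λ.Z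
      rwa [Λ.Z_inv] at this
    · rw [map_mul, map_mul, map_inv, Λ.π_Z, haπ]
      calc D.z * M.a * D.z = (D.z * M.c * D.z) * (D.z * M.c * D.z) := by
            rw [← M.c_sq]
            simp only [mul_assoc]
            rw [← mul_assoc D.z D.z, D.zz, one_mul]
        _ = M.a⁻¹ := by rw [M.z_inv, ← M.c_sq, mul_inv_rev]
  have hconj2 : a⁻¹ * Λ.Z * a = Λ.Z * (a * a) := by
    rw [← haZ]
    simp only [mul_assoc]
    rw [← mul_assoc Λ.Z Λ.Z, Λ.ZZ, one_mul]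
  have hpowa : a ^ M.m = 1 :=
    Λ.eq_of_π hinj (pow_mem ha _) (one_mem _) (by rw [map_pow, haπ, M.a_pow, map_one])
  -- no vector and no functional is fixed by `Z` and `a * a`
  have hX : ∀ y, ρ Λ.Z y = y → ρ (a * a) y = y → y = 0 := fun y h1 h2' => by
    by_contra hy
    exact hnotriv (eq_one_of_fixed ρ hirr hy (fixed_by_res Λ hinj M haπ haZ ρ hfix h1 h2'))
  have hd : ∀ f : Module.Dual k W, ρ.dual Λ.Z f = f → ρ.dual (a * a) f = f → f = 0 := by
    intro f h1 h2'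
    have hEd : ∀ f : Module.Dual k W, ρ.dual Λ.Z f = f → ρ.dual Λ.E f = f := by
      intro f hf
      refine LinearMap.ext fun x => ?_
      have hfz : ∀ x, f (ρ Λ.Z x) = f x := fun x => by
        have := LinearMap.congr_fun hf x
        rwa [Representation.dual_apply, Module.Dual.transpose_apply, LinearMap.comp_apply, Λ.Z_inv] at this
      rw [Representation.dual_apply, Module.Dual.transpose_apply, LinearMap.comp_apply]
      have hy : ρ Λ.E⁻¹ (x + ρ Λ.Z x) = x + ρ Λ.Z x := by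
        have h := hfix (x + ρ Λ.Z x) (by rw [map_add, ← rho_mul, Λ.ZZ, rho_one, add_comm])
        conv_lhs => rw [← h]
        exact rho_inv_self ρ _ _
      have hc : ρ Λ.E⁻¹ (ρ Λ.Z x) = ρ Λ.Z (ρ Λ.E⁻¹ x) := by
        rw [← rho_mul, ← rho_mul, (Λ.ZE.inv_right).eq]
      have h3 := congrArg f hy
      rw [map_add, hc, map_add, hfz, map_add, hfz, ← two_mul, ← two_mul] at h3
      exact mul_left_cancel₀ h2 h3
    have hfres := fixed_by_res Λ hinj M haπ haZ ρ.dual hEd h1 h2'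
    by_contra hf0
    let U : Submodule k W := Submodule.span k {y | ∃ g ∈ res Γ, ∃ x, y = ρ g x - x}
    have hUf : U ≤ LinearMap.ker f := Submodule.span_le.2 fun y hy => by
      obtain ⟨g, hg, x, rfl⟩ := hy
      have := LinearMap.congr_fun (hfres g⁻¹ (inv_mem hg)) x
      rw [Representation.dual_apply, Module.Dual.transpose_apply, LinearMap.comp_apply, inv_inv] at this
      rw [SetLike.mem_coe, LinearMap.mem_ker, map_sub, this, sub_self]
    have hUinv : ∀ g : Γ, ∀ y ∈ U, ρ g y ∈ U := by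
      intro g y hy
      have : U ≤ U.comap (ρ g) := Submodule.span_le.2 fun y hy => by
        obtain ⟨t, ht, x, rfl⟩ := hy
        refine Submodule.subset_span ⟨g * t * g⁻¹, res_normal.conj_mem t ht g, ρ g x, ?_⟩
        rw [map_sub, rho_mul, rho_mul, rho_inv_self]
      exact this hy
    rcases hirr U hUinv with hb | ht
    · refine hnotriv fun g hg => eq_one_of_forall ρ fun x => sub_eq_zero.1 ((Submodule.mem_bot k).1 (hb ▸ ?_))
      exact Submodule.subset_span ⟨g, hg, x, rfl⟩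
    · exact hf0 (LinearMap.ker_eq_top.1 (top_le_iff.1 (ht ▸ hUf)))
  -- the eigenspaces
  let N : Submodule k W := LinearMap.ker (ρ Λ.Z + 1)
  have hN : ∀ y, y ∈ N ↔ ρ Λ.Z y = -y := fun y => add_eq_zero_iff_eq_neg
  let N' : Γ → Submodule k W := fun g => LinearMap.ker (ρ (g⁻¹ * Λ.Z * g) + 1)
  have hN' : ∀ g y, y ∈ N' g ↔ ρ (g⁻¹ * Λ.Z * g) y = -y := fun g y => add_eq_zero_iff_eq_neg
  have hdim : ∀ g, Module.finrank k (N' g) = Module.finrank k N := by
    intro g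
    let e : W ≃ₗ[k] W :=
      { ρ g with
        invFun := ρ g⁻¹
        left_inv := rho_inv_self ρ g
        right_inv := rho_self_inv ρ g }
    have : N' g = N.map (e.symm : W →ₗ[k] W) := by
      ext y
      rw [Submodule.mem_map_equiv, LinearEquiv.symm_symm, hN', hN]
      show _ ↔ ρ Λ.Z (ρ g y) = -ρ g y
      rw [rho_mul, rho_mul, ← map_neg]
      constructor
      · intro h
        rw [← h, rho_self_inv]
      · intro h
        rw [h, rho_inv_self]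
    rw [this, LinearEquiv.finrank_map_eq]
  -- common fixed and negated vectors
  have hfixsub : ∀ g b, g⁻¹ * Λ.Z * g = Λ.Z * b → (∀ y, ρ b y = y → ρ (a * a) y = y) →
      ∀ y, ρ b y = y → y ∈ N ⊓ N' g := by
    intro g b hgb hbaa y hy
    have hbb : ∀ w, ρ b w = w → ρ b (ρ Λ.Z w) = ρ Λ.Z w := by
      intro w hw
      have e : b * Λ.Z * b = Λ.Z := by
        have h1 : (Λ.Z * b) * (Λ.Z * b) = 1 := by
          rw [← hgb]
          simp [mul_assoc, ← mul_assoc Λ.Z Λ.Z, Λ.ZZ]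
        calc b * Λ.Z * b = Λ.Z * ((Λ.Z * b) * (Λ.Z * b)) := by
              simp only [mul_assoc]; rw [← mul_assoc Λ.Z Λ.Z, Λ.ZZ, one_mul]
          _ = Λ.Z := by rw [h1, mul_one]
      have h := congrArg (fun g => ρ g w) e
      simp only [rho_mul, hw] at h
      exact h
    have hyz : ρ b (y + ρ Λ.Z y) = y + ρ Λ.Z y := by rw [map_add, hy, hbb y hy]
    have hzero : y + ρ Λ.Z y = 0 :=
      hX _ (by rw [map_add, ← rho_mul, Λ.ZZ, rho_one, add_comm]) (hbaa _ hyz)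
    have hyN : ρ Λ.Z y = -y := eq_neg_of_add_eq_zero_left (by rwa [add_comm] at hzero)
    exact Submodule.mem_inf.2 ⟨(hN y).2 hyN, (hN' g y).2 (by rw [hgb, rho_mul, hy, hyN])⟩
  have hsub : ∀ g b, g⁻¹ * Λ.Z * g = Λ.Z * b → ∀ y ∈ N ⊓ N' g, ρ b y = y := by
    intro g b hgb y hy
    have h1 := (hN y).1 (Submodule.mem_inf.1 hy).1
    have h2 := (hN' g y).1 (Submodule.mem_inf.1 hy).2
    rw [hgb, rho_mul] at h2
    have := congrArg (ρ Λ.Z) h2
    rwa [← rho_mul, Λ.ZZ, rho_one, map_neg, h1, neg_neg] at this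
  have hsup : ∀ g b, g⁻¹ * Λ.Z * g = Λ.Z * b → (∀ f, ρ.dual b f = f → ρ.dual (a * a) f = f) →
      N ⊔ N' g = ⊤ := by
    intro g b hgb hbaa
    by_contra hne
    obtain ⟨f, hf0, hf⟩ := Submodule.exists_le_ker_of_lt_top _ (lt_top_iff_ne_top.2 hne)
    refine hf0 (hd f ?_ (hbaa f ?_))
    · refine LinearMap.ext fun x => ?_
      rw [Representation.dual_apply, Module.Dual.transpose_apply, LinearMap.comp_apply, Λ.Z_inv]
      have : x - ρ Λ.Z x ∈ N := (hN _).2 (by rw [map_sub, ← rho_mul, Λ.ZZ, rho_one, neg_sub])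
      have := LinearMap.mem_ker.1 (hf (Submodule.mem_sup_left this))
      rw [map_sub, sub_eq_zero] at this
      exact this.symm
    · refine LinearMap.ext fun x => ?_
      rw [Representation.dual_apply, Module.Dual.transpose_apply, LinearMap.comp_apply]
      set w := ρ b⁻¹ x with hw
      have hbw : ρ b w = x := rho_self_inv ρ b x
      have hz : x - ρ Λ.Z x ∈ N := (hN _).2 (by rw [map_sub, ← rho_mul, Λ.ZZ, rho_one, neg_sub])
      have ht : w - ρ (Λ.Z * b) w ∈ N' g := (hN' _ _).2 (by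
        rw [hgb, map_sub, neg_sub, ← rho_mul _ (Λ.Z * b) (Λ.Z * b)]
        rw [show (Λ.Z * b) * (Λ.Z * b) = 1 by rw [← hgb]; simp [mul_assoc, ← mul_assoc Λ.Z Λ.Z, Λ.ZZ],
          rho_one])
      have e1 := LinearMap.mem_ker.1 (hf (Submodule.mem_sup_left hz))
      have e2 := LinearMap.mem_ker.1 (hf (Submodule.mem_sup_right ht))
      rw [map_sub, sub_eq_zero] at e1 e2
      rw [e2, rho_mul, hbw, ← e1]
  have haa : ∀ y, ρ a y = y → ρ (a * a) y = y := fun y hy => by rw [rho_mul, hy, hy]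
  have haad : ∀ f, ρ.dual a f = f → ρ.dual (a * a) f = f := fun f hf => by rw [rho_mul, hf, hf]
  have hrank : ∀ g b, g⁻¹ * Λ.Z * g = Λ.Z * b → (∀ f, ρ.dual b f = f → ρ.dual (a * a) f = f) →
      Module.finrank k W + Module.finrank k ↥(N ⊓ N' g) = 2 * Module.finrank k N := by
    intro g b hgb hbaa
    have := Submodule.finrank_sup_add_finrank_inf_eq N (N' g)
    rw [hsup g b hgb hbaa, finrank_top, hdim g, ← two_mul] at this
    exact this
  have hle : N ⊓ N' cc ≤ N ⊓ N' a := fun y hy =>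
    hfixsub a (a * a) hconj2 (fun _ h => h) y (haa y (hsub cc a hconj y hy))
  have heq : N ⊓ N' cc = N ⊓ N' a := Submodule.eq_of_le_of_finrank_eq hle (by
    have h1 := hrank cc a hconj haad
    have h2 := hrank a (a * a) hconj2 (fun _ h => h)
    omega)
  have hAA : ∀ y, ρ (a * a) y = y → ρ a y = y := fun y hy =>
    hsub cc a hconj y (heq ▸ hfixsub a (a * a) hconj2 (fun _ h => h) y hy)
  -- a vector negated by `a`
  refine hnotriv (res_trivial_of_root Λ ρ M.le M.ne_bot fun v₀ hv₀ hv₀V => ?_)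
  by_contra hne
  obtain ⟨x₀, hx₀⟩ : ∃ x, ρ v₀ x ≠ x := by
    by_contra hc
    push Not at hc
    exact hne (eq_one_of_forall ρ hc)
  set A : Subgroup Γ := res Γ ⊓ M.V.comap Λ.π with hAdef
  have hA : ∀ u ∈ A, ∀ w ∈ A, u * w = w * u := fun u hu' w hw =>
    Λ.eq_of_π hinj (mul_mem hu'.1 hw.1) (mul_mem hw.1 hu'.1) (by rw [map_mul, map_mul, M.comm _ hu'.2 _ hw.2])
  have hv₀A : v₀ ∈ A := mem_inf.2 ⟨hv₀, hv₀V⟩
  have hpow : v₀ ^ p = 1 :=
    Λ.eq_of_π hinj (pow_mem hv₀ p) (one_mem _) (by rw [map_pow, M.pow _ hv₀V, map_one])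
  obtain ⟨χ, hχv, x, -, hx, hxw⟩ := exists_weight_ne_one ρ A hA (U := ⊤) (fun _ _ _ _ => Submodule.mem_top)
    hv₀A hpow hpk Submodule.mem_top hx₀
  have hnorm : ∀ i : ℕ, ∀ u ∈ A, (a ^ i)⁻¹ * u * a ^ i ∈ A := by
    intro i u hu'
    refine mem_inf.2 ⟨res_normal.conj_mem' u hu'.1 _, ?_⟩
    rw [mem_comap, map_mul, map_mul, map_inv, map_pow, haπ]
    exact (mem_normalizer_iff''.1 (pow_mem M.a_norm i) _).1 hu'.2
  let ψ : Fin M.m → (A → k) := fun i u => χ ⟨(a ^ (i : ℕ))⁻¹ * u * a ^ (i : ℕ), hnorm i u u.2⟩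
  let f : Fin M.m → W := fun i => ((-1 : k) ^ (i : ℕ)) • ρ (a ^ (i : ℕ)) x
  have hfw : ∀ i, f i ∈ wspace ρ A (ψ i) := fun i =>
    Submodule.smul_mem _ _ (map_wspace ρ A (fun u => hnorm i u u.2) hxw)
  have hdist : ∀ i j : Fin M.m, (i : ℕ) < j → ψ i ≠ ψ j := by
    intro i j hij e
    refine hχv (conj_weight_fixed ρ hx hxw hA (g := a ^ ((j : ℕ) - i)) (fun u hu' => hnorm _ u hu')
      (fun u hu' h => ?_) (fun u => ?_) ⟨v₀, hv₀A⟩)
    · refine Λ.eq_of_π hinj hu'.1 (one_mem _) ?_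
      rw [map_one]
      refine M.a_fpf ((j : ℕ) - i) (by omega) (by omega) _ hu'.2 ?_
      rw [← haπ, ← map_pow, ← map_mul, ← map_mul]
      congr 1
      conv_lhs => rw [← h]
      group
    · have hu' : a ^ (i : ℕ) * (u : Γ) * (a ^ (i : ℕ))⁻¹ ∈ A := by
        refine mem_inf.2 ⟨(res_normal (Γ := Γ)).conj_mem _ u.2.1 _, ?_⟩
        rw [mem_comap, map_mul, map_mul, map_inv, map_pow, haπ]
        exact (mem_normalizer_iff.1 (pow_mem M.a_norm (i : ℕ)) _).1 u.2.2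
      have e1 := congrFun e ⟨_, hu'⟩
      have hi : (⟨(a ^ (i : ℕ))⁻¹ * (a ^ (i : ℕ) * (u : Γ) * (a ^ (i : ℕ))⁻¹) * a ^ (i : ℕ),
          hnorm i _ hu'⟩ : A) = u := Subtype.ext (by group)
      have hj : a ^ (j : ℕ) = a ^ (i : ℕ) * a ^ ((j : ℕ) - i) := by
        rw [← pow_add]; congr 1; omega
      simp only [ψ, hi] at e1
      rw [e1]
      exact congrArg χ (Subtype.ext (by simp only [hj]; group))
  have hinjψ : Function.Injective ψ := fun i j e => by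
    rcases lt_trichotomy (i : ℕ) j with h | h | h
    · exact absurd e (hdist i j h)
    · exact Fin.ext h
    · exact absurd e.symm (hdist j i h)
  let F : ℕ → W := fun i => ((-1 : k) ^ i) • ρ (a ^ i) x
  set y : W := ∑ i ∈ Finset.range M.m, F i with hy
  have hFm : F M.m = F 0 := by
    simp only [F, hpowa, pow_zero, M.m_even.neg_one_pow]
  have hay : ρ a y = -y := by
    have h1 : ρ a y = -∑ i ∈ Finset.range M.m, F (i + 1) := by
      rw [hy, map_sum, ← Finset.sum_neg_distrib]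
      refine Finset.sum_congr rfl fun i _ => ?_
      simp only [F, map_smul, ← rho_mul, ← pow_succ', pow_succ (-1 : k), mul_neg, mul_one, neg_smul, neg_neg]
    have h2' := (Finset.sum_range_succ' F M.m).symm.trans (Finset.sum_range_succ F M.m)
    rw [hFm] at h2'
    rw [h1, add_right_cancel h2']
  have hy0 : y = 0 := by
    have h3 := hAA y (by rw [rho_mul, hay, map_neg, hay, neg_neg])
    rw [hay, neg_eq_iff_add_eq_zero, ← two_smul k] at h3
    exact (smul_eq_zero.1 h3).resolve_left h2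
  have hsum : ∑ i, f i = 0 := by
    rw [← hy0, hy, Finset.sum_range]
  have := eq_zero_of_sum ρ A ψ f hfw hsum (i₀ := ⟨0, M.m_pos⟩) (fun j hj => hinjψ hj)
  exact hx (by simpa [f, rho_one] using this)

/-- The torus lemma for an irreducible module when the residual meets the kernel trivially. -/
theorem kills_central (hinj : res Γ ⊓ Λ.π.ker = ⊥) (hD : RootData D p) (hp : Odd p) (hpk : (p : k) ≠ 0)
    (h2 : (2 : k) ≠ 0) (hirr : Irred ρ) (hfix : ∀ x, ρ Λ.Z x = x → ρ Λ.E x = x) :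
    ∀ g ∈ res Γ, ρ g = 1 := by
  rcases hD with ⟨⟨P⟩⟩ | ⟨⟨M⟩⟩
  · exact plus_case Λ ρ hinj P hp hpk hfix
  · exact minus_case Λ ρ hinj M hpk h2 hirr hfix

end Cfsg.Agent.SDKeystone.NoTorus
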