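import Cfsg.Agent.EqLemmas
import Cfsg.Agent.Lib.SDKeystone.NoTorus.Central
import Mathlib.Analysis.Complex.Polynomial.Basic
import Mathlib.LinearAlgebra.Quotient.Basic

/-!
# Disjoint supports (helper90)

* `kills_of_irred` : reduction of the torus lemma to irreducible modules;
* `perm_trivial` : if every point of a finite `Γ`-set is fixed by `Z` or by `E`, the residual fixes every point.
-/

set_option autoImplicit false

open scoped commutatorElement

namespace Cfsg.Agent.SDKeystone.NoTorus

open Subgroup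

universe u v w

variable {G : Type u} [Group G] {D : Frame G}

section Reduction

variable {k : Type*} [Field k] {Γ : Type v} [Group Γ] {W : Type w} [AddCommGroup W] [Module k W]

/-- The action on an invariant subspace. -/
noncomputable def subRep (ρ : Representation k Γ W) (U : Submodule k W) (h : ∀ g : Γ, ∀ x ∈ U, ρ g x ∈ U) :
    Representation k Γ U where
  toFun g := (ρ g).restrict (h g)
  map_one' := LinearMap.ext fun x => Subtype.ext (rho_one ρ (x : W))
  map_mul' a b := LinearMap.ext fun x => Subtype.ext (rho_mul ρ a b (x : W))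

/-- The action on the quotient by an invariant subspace. -/
noncomputable def quotRep (ρ : Representation k Γ W) (U : Submodule k W) (h : ∀ g : Γ, ∀ x ∈ U, ρ g x ∈ U) :
    Representation k Γ (W ⧸ U) where
  toFun g := U.mapQ U (ρ g) fun x hx => h g x hx
  map_one' := Submodule.linearMap_qext _ (LinearMap.ext fun x => congrArg Submodule.Quotient.mk (rho_one ρ x))
  map_mul' a b := Submodule.linearMap_qext _
    (LinearMap.ext fun x => congrArg Submodule.Quotient.mk (rho_mul ρ a b x))

theorem kills_of_irred [Finite Γ] (Λ : Lift D Γ) (h2 : (2 : k) ≠ 0)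
    (H : ∀ (W : Type w) [AddCommGroup W] [Module k W] [FiniteDimensional k W] (ρ : Representation k Γ W),
      Irred ρ → (∀ x, ρ Λ.Z x = x → ρ Λ.E x = x) → ∀ g ∈ res Γ, ρ g = 1) :
    ∀ (W : Type w) [AddCommGroup W] [Module k W] [FiniteDimensional k W] (ρ : Representation k Γ W),
      (∀ x, ρ Λ.Z x = x → ρ Λ.E x = x) → ∀ g ∈ res Γ, ρ g = 1 := by
  intro W _ _ _ ρ hfix
  induction hn : Module.finrank k W using Nat.strong_induction_on generalizing W with
  | _ n ih =>
    by_cases hirr : Irred ρ
    · exact H W ρ hirr hfix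
    simp only [Irred] at hirr
    push Not at hirr
    obtain ⟨U, hU, hb, ht⟩ := hirr
    have h1 := ih _ (hn ▸ Submodule.finrank_lt ht) U (subRep ρ U hU)
      (fun x hx => Subtype.ext (hfix x.1 (congrArg Subtype.val hx))) rfl
    have hfQ : ∀ y, quotRep ρ U hU Λ.Z y = y → quotRep ρ U hU Λ.E y = y := by
      intro y hy
      obtain ⟨x, rfl⟩ := Submodule.Quotient.mk_surjective U y
      have hx' := hfix (x + ρ Λ.Z x) (by rw [map_add, ← rho_mul, Λ.ZZ, rho_one, add_comm])
      have e1 : (Submodule.Quotient.mk (x + ρ Λ.Z x) : W ⧸ U) = (2 : k) • Submodule.Quotient.mk x := by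
        rw [two_smul, Submodule.Quotient.mk_add]
        exact congrArg (Submodule.Quotient.mk x + ·) hy
      have e2 : quotRep ρ U hU Λ.E (Submodule.Quotient.mk (x + ρ Λ.Z x)) = Submodule.Quotient.mk (x + ρ Λ.Z x) :=
        congrArg Submodule.Quotient.mk hx'
      rw [e1, map_smul] at e2
      exact smul_right_injective _ h2 e2
    have h3 := ih _ (hn ▸ (by
        have := U.finrank_quotient_add_finrank
        have : 0 < Module.finrank k U := Module.finrank_pos_iff.2 (Submodule.nontrivial_iff_ne_bot.2 hb)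
        omega)) (W ⧸ U) (quotRep ρ U hU) hfQ rfl
    refine eq_one_of_step ρ res_perfect U
      (fun g hg x hx => congrArg Subtype.val (apply_of_eq_one (subRep ρ U hU) (h1 g hg) ⟨x, hx⟩))
      (fun g hg x => (Submodule.Quotient.eq U).1
        (apply_of_eq_one (quotRep ρ U hU) (h3 g hg) (Submodule.Quotient.mk x)))

end Reduction

/-- The identity lift. -/
noncomputable def idLift [Finite G] (D : Frame G) : Lift D G where
  π := MonoidHom.id G
  surj g := ⟨g, rfl⟩
  odd := by
    rw [show (MonoidHom.id G).ker = ⊥ from (MonoidHom.ker_eq_bot_iff _).2 (fun a b h => h), Subgroup.card_bot]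
    exact odd_one
  solv := by
    rw [show (MonoidHom.id G).ker = ⊥ from (MonoidHom.ker_eq_bot_iff _).2 (fun a b h => h)]
    infer_instance
  Z := D.z
  E := D.e
  π_Z := rfl
  π_E := rfl
  ZZ := D.zz
  ZE := D.ze
  E_pow := ⟨1, by rw [pow_one, D.e_pow]⟩

/-- `G` has no permutation action with disjoint supports of `z` and `e` that is faithful on `L`. -/
theorem perm_base [Finite G] {p : ℕ} (hD : RootData D p) (hp : Odd p) {n : ℕ} (φ : G →* Equiv.Perm (Fin n))
    (h : ∀ i, φ D.z i = i ∨ φ D.e i = i) : D.L ≤ φ.ker := by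
  classical
  have := D.normal
  let χ : G → ℂ := fun g => if g ∈ D.L then 1 else -1
  have hmul : ∀ a b, χ (a * b) = χ a * χ b := by
    intro a b
    by_cases ha : a ∈ D.L
    · simp only [χ, if_pos ha, one_mul, Subgroup.mul_mem_cancel_left D.L ha]
    · by_cases hb : b ∈ D.L
      · simp only [χ, if_pos hb, mul_one, Subgroup.mul_mem_cancel_right D.L hb]
      · have hab : a * b ∈ D.L := by
          have h1 := (D.top a).resolve_left ha
          have h2 := D.normal.conj_mem _ ((D.top b).resolve_left hb) D.z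
          have h3 := D.L.mul_mem h1 h2
          rwa [inv_eq_of_mul_eq_one_right D.zz,
            show a * D.z * (D.z * (b * D.z) * D.z) = a * b by
              simp only [mul_assoc]
              rw [D.zz, mul_one, ← mul_assoc D.z D.z, D.zz, one_mul]] at h3
        simp only [χ, if_neg ha, if_neg hb, if_pos hab, neg_mul_neg, one_mul]
  have hone : χ 1 = 1 := if_pos (one_mem _)
  let σ : Representation ℂ G (Fin n → ℂ) :=
    { toFun := fun g =>
        { toFun := fun f i => χ g * f (φ g⁻¹ i)
          map_add' := fun f f' => funext fun i => mul_add _ _ _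
          map_smul' := fun c f => funext fun i => by simp [mul_left_comm] }
      map_one' := LinearMap.ext fun f => funext fun i => by simp [hone]
      map_mul' := fun a b => LinearMap.ext fun f => funext fun i => by
        show χ (a * b) * f (φ (a * b)⁻¹ i) = χ a * (χ b * f (φ b⁻¹ (φ a⁻¹ i)))
        rw [hmul, mul_inv_rev, map_mul, Equiv.Perm.mul_apply, mul_assoc] }
  have hfix : ∀ f, σ D.z f = f → σ D.e f = f := by
    intro f hf
    funext i
    show χ D.e * f (φ D.e⁻¹ i) = f i
    have he : χ D.e = 1 := if_pos D.e_mem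
    have hz : χ D.z = -1 := if_neg D.z_notMem
    rw [he, one_mul]
    have hfz : ∀ j, φ D.z j = j → f j = 0 := by
      intro j hj
      have h1 := congrFun hf j
      change χ D.z * f (φ D.z⁻¹ j) = f j at h1
      rw [inv_eq_of_mul_eq_one_right D.zz, hj, hz, neg_one_mul] at h1
      linear_combination (-1 / 2 : ℂ) * h1
    have hinv : ∀ j, φ D.e j = j → φ D.e⁻¹ j = j := fun j hj => by
      conv_lhs => rw [← hj]
      rw [← Equiv.Perm.mul_apply, ← map_mul, inv_mul_cancel, map_one, Equiv.Perm.one_apply]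
    rcases h i with hi | hi
    · have hcomm : φ D.z (φ D.e⁻¹ i) = φ D.e⁻¹ i := by
        rw [← Equiv.Perm.mul_apply, ← map_mul, D.ze.inv_right.eq, map_mul, Equiv.Perm.mul_apply, hi]
      rw [hfz _ hcomm, hfz _ hi]
    · rw [hinv i hi]
  have hres : res G = D.L := D.res_eq
  have hker : (MonoidHom.id G).ker = ⊥ := (MonoidHom.ker_eq_bot_iff _).2 (fun a b h => h)
  have key := kills_of_irred (idLift D) (k := ℂ) two_ne_zero
    (fun W _ _ _ ρ hirr hfix => kills_central (idLift D) ρ
      (by show res G ⊓ (MonoidHom.id G).ker = ⊥; rw [hker, inf_bot_eq]) hD hp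
      (Nat.cast_ne_zero.2 (by obtain ⟨j, rfl⟩ := hp; omega)) two_ne_zero hirr hfix) (Fin n → ℂ) σ hfix
  intro g hg
  rw [MonoidHom.mem_ker]
  refine Equiv.ext fun i => ?_
  have h1 := congrFun (apply_of_eq_one σ (key g (hres ▸ hg)) (Pi.single i 1)) (φ g i)
  change χ g * (Pi.single i 1 : Fin n → ℂ) (φ g⁻¹ (φ g i)) = (Pi.single i 1 : Fin n → ℂ) (φ g i) at h1
  rw [← Equiv.Perm.mul_apply, ← map_mul, inv_mul_cancel, map_one, Equiv.Perm.one_apply, Pi.single_eq_same,
    show χ g = 1 from if_pos hg, one_mul] at h1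
  by_contra hne
  rw [Pi.single_eq_of_ne (by simpa using hne)] at h1
  exact one_ne_zero h1

/-- The action on an invariant set. -/
def onSet {Γ : Type v} [Group Γ] {Ω : Type} (φ : Γ →* Equiv.Perm Ω) (S : Set Ω)
    (h : ∀ g x, φ g x ∈ S ↔ x ∈ S) : Γ →* Equiv.Perm S where
  toFun g := (φ g).subtypePerm fun x => h g x
  map_one' := Equiv.ext fun x => Subtype.ext (by simp)
  map_mul' a b := Equiv.ext fun x => Subtype.ext (Equiv.congr_fun (map_mul φ a b) x.1)

section Count

variable {Γ : Type v} [Group Γ] {Ω : Type} [Fintype Ω] [DecidableEq Ω]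

theorem three_mul_fixed_le (φ : Γ →* Equiv.Perm Ω) (A : Subgroup Γ) [A.Normal] (hodd : Odd (Nat.card A))
    (hreg : ∀ a ∈ A, ∀ x, φ a x = x → φ a = 1) (htrans : ∀ x y, ∃ a ∈ A, φ a x = y)
    [Finite Γ] {g : Γ} (hg : φ g ≠ 1) :
    3 * (Finset.univ.filter fun x => φ g x = x).card ≤ Fintype.card Ω := by
  rcases (Finset.univ.filter fun x => φ g x = x).eq_empty_or_nonempty with h0 | ⟨x, hx⟩
  · simp [h0]
  rw [Finset.mem_filter] at hx
  set Ā := A.map φ with hĀ
  set C := Ā ⊓ centralizer {φ g} with hC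
  let ev : Ā → Ω := fun a => (a : Equiv.Perm Ω) x
  have hev : Function.Bijective ev := by
    constructor
    · rintro ⟨_, a, ha, rfl⟩ ⟨_, b, hb, rfl⟩ e
      refine Subtype.ext ?_
      have : φ (b⁻¹ * a) x = x := by
        rw [map_mul, Equiv.Perm.mul_apply, show φ a x = φ b x from e, ← Equiv.Perm.mul_apply, ← map_mul,
          inv_mul_cancel, map_one, Equiv.Perm.one_apply]
      have h1 := hreg _ (mul_mem (inv_mem hb) ha) x this
      rw [map_mul, map_inv, inv_mul_eq_one] at h1
      exact h1.symm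
    · intro y
      obtain ⟨a, ha, e⟩ := htrans x y
      exact ⟨⟨φ a, a, ha, rfl⟩, e⟩
  have hcardĀ : Fintype.card Ω = Nat.card Ā := by
    rw [← Nat.card_eq_fintype_card]
    exact (Nat.card_eq_of_bijective ev hev).symm
  have hle : (Finset.univ.filter fun y => φ g y = y).card ≤ Nat.card C := by
    rw [← Fintype.card_coe, ← Nat.card_eq_fintype_card]
    refine Nat.card_le_card_of_injective
      (fun y => (⟨((Equiv.ofBijective ev hev).symm y.1 : Equiv.Perm Ω), ?_⟩ : ↥C)) ?_
    · obtain ⟨⟨_, a, ha, rfl⟩, hay⟩ : ∃ b : Ā, (Equiv.ofBijective ev hev).symm y.1 = b := ⟨_, rfl⟩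
      rw [hay]
      refine mem_inf.2 ⟨⟨a, ha, rfl⟩, mem_centralizer_singleton_iff.2 ?_⟩
      have hy : φ a x = y.1 := by
        have := (Equiv.ofBijective ev hev).apply_symm_apply y.1
        rwa [hay] at this
      have hgy := (Finset.mem_filter.1 y.2).2
      have hmem : g * a * g⁻¹ ∈ A := ‹A.Normal›.conj_mem a ha g
      have hfx : φ (a⁻¹ * (g * a * g⁻¹)) x = x := by
        have hgx : φ g⁻¹ x = x := by
          conv_lhs => rw [← hx.2]
          rw [← Equiv.Perm.mul_apply, ← map_mul, inv_mul_cancel, map_one, Equiv.Perm.one_apply]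
        simp only [map_mul, Equiv.Perm.mul_apply, hgx, hy, hgy]
        rw [← hy, ← Equiv.Perm.mul_apply, ← map_mul, inv_mul_cancel, map_one, Equiv.Perm.one_apply]
      have h1 := hreg _ (mul_mem (inv_mem ha) hmem) x hfx
      rw [map_mul, map_inv, inv_mul_eq_one, map_mul, map_mul, map_inv, eq_mul_inv_iff_mul_eq] at h1
      exact h1
    · intro y z e
      have e' : ((Equiv.ofBijective ev hev).symm y.1 : Equiv.Perm Ω) = (Equiv.ofBijective ev hev).symm z.1 :=
        congrArg (fun c : ↥C => (c : Equiv.Perm Ω)) e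
      exact Subtype.ext ((Equiv.ofBijective ev hev).symm.injective (Subtype.ext e'))
  have hne : C ≠ Ā := by
    intro e
    apply hg
    refine Equiv.ext fun y => ?_
    obtain ⟨a, ha, rfl⟩ := htrans x y
    have hm : φ a ∈ C := e ▸ mem_map_of_mem φ ha
    rw [Equiv.Perm.one_apply, ← Equiv.Perm.mul_apply, ← mem_centralizer_singleton_iff.1 (mem_inf.1 hm).2,
      Equiv.Perm.mul_apply, hx.2]
  obtain ⟨j, hj⟩ := Subgroup.card_dvd_of_le (inf_le_left : C ≤ Ā)
  have hĀodd : Odd (Nat.card Ā) := hodd.of_dvd_nat (A.card_map_dvd φ)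
  rw [hj] at hĀodd
  have hj3 : 3 ≤ j := by
    obtain ⟨-, t, rfl⟩ := Nat.odd_mul.1 hĀodd
    rcases t with - | t
    · exact absurd (eq_of_le_of_card_ge (inf_le_left : C ≤ Ā) (by rw [hj]; simp)) hne
    · omega
  rw [hcardĀ, hj]
  calc 3 * (Finset.univ.filter fun y => φ g y = y).card ≤ 3 * Nat.card C := by omega
    _ ≤ Nat.card C * j := by rw [mul_comm]; exact Nat.mul_le_mul_left _ hj3

end Count

/-- Every point fixed by `Z` or by `E`: the residual fixes every point. -/
theorem perm_trivial [Finite G] {p : ℕ} (hD : RootData D p) (hp : Odd p) {Γ : Type v} [Group Γ] [Finite Γ]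
    (Λ : Lift D Γ) {Ω : Type} [Finite Ω] (φ : Γ →* Equiv.Perm Ω)
    (h : ∀ x, φ Λ.Z x = x ∨ φ Λ.E x = x) : ∀ g ∈ res Γ, φ g = 1 := by
  classical
  induction hn : Nat.card Ω using Nat.strong_induction_on generalizing Γ Ω with
  | _ n ih =>
    have inv_apply : ∀ g x, φ g⁻¹ (φ g x) = x := fun g x => by
      rw [← Equiv.Perm.mul_apply, ← map_mul, inv_mul_cancel, map_one, Equiv.Perm.one_apply]
    have apply_inv : ∀ g x, φ g (φ g⁻¹ x) = x := fun g x => by
      rw [← Equiv.Perm.mul_apply, ← map_mul, mul_inv_cancel, map_one, Equiv.Perm.one_apply]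
    -- an invariant proper non-empty set
    by_cases htrans : ∀ x y, ∃ g, φ g x = y
    swap
    · push Not at htrans
      obtain ⟨x, y, hxy⟩ := htrans
      let S : Set Ω := {t | ∃ g, φ g x = t}
      have hS : ∀ g t, φ g t ∈ S ↔ t ∈ S := by
        intro g t
        constructor
        · rintro ⟨k, hk⟩
          exact ⟨g⁻¹ * k, by rw [map_mul, Equiv.Perm.mul_apply, hk, inv_apply]⟩
        · rintro ⟨k, hk⟩
          exact ⟨g * k, by rw [map_mul, Equiv.Perm.mul_apply, hk]⟩
      have hxS : x ∈ S := ⟨1, by simp⟩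
      have hyS : y ∉ S := fun ⟨g, hg⟩ => hxy g hg
      have key : ∀ (S : Set Ω) (hS : ∀ g t, φ g t ∈ S ↔ t ∈ S), (∃ z, z ∉ S) →
          ∀ g ∈ res Γ, ∀ t ∈ S, φ g t = t := by
        intro S hS ⟨z, hz⟩ g hg t ht
        have hlt : Nat.card S < n := by
          rw [← hn, Nat.card_coe_set_eq, ← Set.ncard_univ]
          exact Set.ncard_lt_ncard (Set.ssubset_univ_iff.2 fun e => hz (e ▸ Set.mem_univ z))
        exact congrArg Subtype.val (Equiv.congr_fun (ih _ hlt Λ (onSet φ S hS)
          (fun s => (h s.1).imp Subtype.ext Subtype.ext) rfl g hg) ⟨t, ht⟩)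
      intro g hg
      refine Equiv.ext fun t => ?_
      by_cases ht : t ∈ S
      · exact key S hS ⟨y, hyS⟩ g hg t ht
      · exact key Sᶜ (fun g t => not_congr (hS g t)) ⟨x, fun hx => hx hxS⟩ g hg t ht
    -- the kernel acts trivially
    by_cases hN : Λ.π.ker ≤ φ.ker
    · intro g hg
      let φ' := Λ.π.liftOfSurjective Λ.surj ⟨φ, hN⟩
      have hφ' : ∀ x, φ' (Λ.π x) = φ x := fun x => Λ.π.liftOfRightInverse_comp_apply _ _ ⟨φ, hN⟩ x
      have : Fintype Ω := Fintype.ofFinite Ω
      let e := Fintype.equivFin Ω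
      have hker := perm_base hD hp (e.permCongrHom.toMonoidHom.comp φ') (fun i => by
        rcases h (e.symm i) with hi | hi
        · left
          show e (φ' D.z (e.symm i)) = i
          rw [← Λ.π_Z, hφ', hi, Equiv.apply_symm_apply]
        · right
          show e (φ' D.e (e.symm i)) = i
          rw [← Λ.π_E, hφ', hi, Equiv.apply_symm_apply])
      have h1 : e.permCongrHom (φ' (Λ.π g)) = 1 := hker (Λ.π_res hg)
      rwa [MulEquiv.map_eq_one_iff, hφ'] at h1
    -- an abelian normal subgroup of the kernel acting non-trivially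
    have := Λ.solv
    obtain ⟨n0, hn0⟩ := Group.IsSolvable.solvable (G := Λ.π.ker)
    let Ds : ℕ → Subgroup Γ := fun i => (derivedSeries Λ.π.ker i).map Λ.π.ker.subtype
    have hDn : ∀ i, (Ds i).Normal := by
      intro i
      induction i with
      | zero =>
        simp only [Ds, derivedSeries_zero, ← MonoidHom.range_eq_map, range_subtype]
        infer_instance
      | succ i hi =>
        have : (derivedSeries Λ.π.ker (i + 1)).map Λ.π.ker.subtype = ⁅Ds i, Ds i⁆ := by
          rw [derivedSeries_succ, map_commutator]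
        show ((derivedSeries Λ.π.ker (i + 1)).map Λ.π.ker.subtype).Normal
        rw [this]
        exact Subgroup.commutator_normal _ _
    obtain ⟨i, hi1, hi2⟩ : ∃ i, ¬ Ds i ≤ φ.ker ∧ Ds (i + 1) ≤ φ.ker := by
      by_contra hc
      push Not at hc
      have hall : ∀ i, ¬ Ds i ≤ φ.ker := by
        intro i
        induction i with
        | zero => simpa only [Ds, derivedSeries_zero, ← MonoidHom.range_eq_map, range_subtype] using hN
        | succ i hi => exact hc i hi
      exact hall n0 (by simp only [Ds, hn0, Subgroup.map_bot, bot_le])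
    set A := Ds i with hA
    have : A.Normal := hDn i
    have hcomm : ∀ a ∈ A, ∀ b ∈ A, φ a * φ b = φ b * φ a := by
      intro a ha b hb
      have h1 : ⁅a, b⁆ ∈ Ds (i + 1) := by
        simp only [Ds, derivedSeries_succ, map_commutator]
        exact commutator_mem_commutator ha hb
      have h2 := MonoidHom.mem_ker.1 (hi2 h1)
      rwa [map_commutatorElement, commutatorElement_eq_one_iff_mul_comm] at h2
    have hAN : A ≤ Λ.π.ker := map_subtype_le _
    have hAodd : Odd (Nat.card A) := Λ.odd.of_dvd_nat (Subgroup.card_dvd_of_le hAN)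
    let B : Ω → Set Ω := fun x => {t | ∃ a ∈ A, φ a x = t}
    have hBself : ∀ x, x ∈ B x := fun x => ⟨1, one_mem _, by simp⟩
    have hBeq : ∀ x, ∀ t ∈ B x, B t = B x := by
      rintro x t ⟨a, ha, rfl⟩
      ext s
      constructor
      · rintro ⟨b, hb, rfl⟩
        exact ⟨b * a, mul_mem hb ha, by rw [map_mul, Equiv.Perm.mul_apply]⟩
      · rintro ⟨b, hb, rfl⟩
        exact ⟨b * a⁻¹, mul_mem hb (inv_mem ha), by rw [map_mul, Equiv.Perm.mul_apply, inv_apply]⟩
    have hBmap : ∀ g x, φ g '' B x = B (φ g x) := by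
      intro g x
      ext s
      constructor
      · rintro ⟨_, ⟨a, ha, rfl⟩, rfl⟩
        exact ⟨g * a * g⁻¹, ‹A.Normal›.conj_mem a ha g,
          by simp only [map_mul, Equiv.Perm.mul_apply, inv_apply]⟩
      · rintro ⟨a, ha, rfl⟩
        refine ⟨φ (g⁻¹ * a * g) x, ⟨_, ‹A.Normal›.conj_mem' a ha g, rfl⟩, ?_⟩
        simp only [map_mul, Equiv.Perm.mul_apply, apply_inv]
    by_cases hAtrans : ∀ x y, y ∈ B x
    · -- regular abelian normal subgroup
      have hreg : ∀ a ∈ A, ∀ x, φ a x = x → φ a = 1 := by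
        intro a ha x hx
        refine Equiv.ext fun y => ?_
        obtain ⟨b, hb, rfl⟩ := hAtrans x y
        rw [Equiv.Perm.one_apply, ← Equiv.Perm.mul_apply, hcomm a ha b hb, Equiv.Perm.mul_apply, hx]
      have hZE : φ Λ.Z = 1 ∨ φ Λ.E = 1 := by
        by_contra hc
        push Not at hc
        have : Fintype Ω := Fintype.ofFinite Ω
        have hz := three_mul_fixed_le φ A hAodd hreg (fun x y => hAtrans x y) hc.1
        have he := three_mul_fixed_le φ A hAodd hreg (fun x y => hAtrans x y) hc.2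
        have hu : (Finset.univ : Finset Ω) ⊆
            (Finset.univ.filter fun x => φ Λ.Z x = x) ∪ (Finset.univ.filter fun x => φ Λ.E x = x) :=
          fun x _ => by simpa using h x
        have hle := (Finset.card_le_card hu).trans (Finset.card_union_le _ _)
        rw [Finset.card_univ] at hle
        have hpos : Fintype.card Ω = 0 := by omega
        rw [Fintype.card_eq_zero_iff] at hpos
        exact hc.1 (Equiv.ext fun x => hpos.elim x)
      intro g hg
      refine MonoidHom.mem_ker.1 (Λ.res_le (fun k hk m hm => (inferInstance : φ.ker.Normal).conj_mem m hm k)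
        (hZE.imp MonoidHom.mem_ker.2 MonoidHom.mem_ker.2) hg)
    -- blocks
    push Not at hAtrans
    obtain ⟨x0, y0, hy0⟩ := hAtrans
    let Ω' := Set.range B
    let act : Γ → Equiv.Perm Ω' := fun g =>
      { toFun := fun s => ⟨φ g '' s.1, by obtain ⟨x, hx⟩ := s.2; exact ⟨φ g x, by rw [← hx, hBmap]⟩⟩
        invFun := fun s => ⟨φ g⁻¹ '' s.1, by obtain ⟨x, hx⟩ := s.2; exact ⟨φ g⁻¹ x, by rw [← hx, hBmap]⟩⟩
        left_inv := fun s => Subtype.ext (by simp [Set.image_image])
        right_inv := fun s => Subtype.ext (by simp [Set.image_image]) }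
    let ψ : Γ →* Equiv.Perm Ω' :=
      { toFun := act
        map_one' := Equiv.ext fun s => Subtype.ext (by simp [act])
        map_mul' := fun a b => Equiv.ext fun s => Subtype.ext (by simp [act, Set.image_image]) }
    have hψ : ∀ g x, (ψ g ⟨B x, x, rfl⟩ : Set Ω) = B (φ g x) := fun g x => hBmap g x
    have hlt : Nat.card Ω' < n := by
      rw [← hn]
      refine lt_of_le_of_ne (Nat.card_le_card_of_surjective _ Set.rangeFactorization_surjective) fun e => ?_
      have hinj : Function.Injective (Set.rangeFactorization B) :=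
        (Nat.bijective_iff_surjective_and_card _).2 ⟨Set.rangeFactorization_surjective, e.symm⟩ |>.1
      refine hi1 fun a ha => MonoidHom.mem_ker.2 (Equiv.ext fun x => ?_)
      exact hinj (Subtype.ext (hBeq x _ ⟨a, ha, rfl⟩))
    have hblocks := ih _ hlt Λ ψ (fun s => by
      obtain ⟨_, x, rfl⟩ := s
      rcases h x with hx | hx
      · exact Or.inl (Subtype.ext (by rw [hψ, hx]))
      · exact Or.inr (Subtype.ext (by rw [hψ, hx]))) rfl
    intro g hg
    refine Equiv.ext fun x => ?_
    let S := B x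
    let H : Subgroup Γ :=
      { carrier := {k | φ k '' S = S}
        one_mem' := by simp
        mul_mem' := fun {a b} (ha : φ a '' S = S) (hb : φ b '' S = S) => by
          show φ (a * b) '' S = S
          rw [map_mul, Equiv.Perm.coe_mul, Set.image_comp, hb, ha]
        inv_mem' := fun {a} (ha : φ a '' S = S) => by
          show φ a⁻¹ '' S = S
          conv_lhs => rw [← ha]
          simp [Set.image_image] }
    have hKH : res Γ ≤ H := fun k hk => by
      have := congrArg Subtype.val (Equiv.congr_fun (hblocks k hk) ⟨B x, x, rfl⟩)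
      rw [hψ] at this
      show φ k '' B x = B x
      rw [hBmap]
      exact this
    have hout : ∀ k m, k ∉ H → (∀ t ∈ S, φ k t ≠ t) ∧ ((∀ t ∈ S, φ k t ≠ t → φ m t = t) →
        (∀ t ∈ S, φ m t = t)) := by
      intro k m hk
      have h1 : ∀ t ∈ S, φ k t ≠ t := fun t ht e => hk (by
        show φ k '' B x = B x
        rw [← hBeq x t ht, hBmap, e])
      exact ⟨h1, fun h2 t ht => h2 t ht (h1 t ht)⟩
    have hfix : ∀ m, (∀ t ∈ S, φ m t = t) → (m = Λ.Z ∨ m = Λ.E) → ∀ t ∈ S, φ g t = t := by
      intro m hm hm' t ht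
      let M : Subgroup Γ :=
        { carrier := {k | ∀ t ∈ S, φ k t = t}
          one_mem' := fun t _ => by simp
          mul_mem' := fun {a b} ha hb t ht => by rw [map_mul, Equiv.Perm.mul_apply, hb t ht, ha t ht]
          inv_mem' := fun {a} ha t ht => by conv_lhs => rw [← ha t ht, inv_apply] }
      refine Λ.res_le (M := M) (fun k hk a ha t ht => ?_) ?_ hg t ht
      · have hk' : φ k⁻¹ t ∈ S := by
          have := hKH (inv_mem hk)
          exact this ▸ Set.mem_image_of_mem _ ht
        simp only [map_mul, Equiv.Perm.mul_apply, ha _ hk', apply_inv]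
      · rcases hm' with rfl | rfl
        exacts [Or.inl hm, Or.inr hm]
    rw [Equiv.Perm.one_apply]
    by_cases hZH : Λ.Z ∈ H
    swap
    · exact hfix Λ.E ((hout _ Λ.E hZH).2 fun t _ ht => (h t).resolve_left ht) (Or.inr rfl) x (hBself x)
    by_cases hEH : Λ.E ∈ H
    swap
    · exact hfix Λ.Z ((hout _ Λ.Z hEH).2 fun t _ ht => (h t).resolve_right ht) (Or.inl rfl) x (hBself x)
    have hSinv : ∀ (k : H) (t : Ω), φ (k : Γ) t ∈ S ↔ t ∈ S := fun k t => by
      constructor
      · intro hk
        have hk' : φ (k : Γ)⁻¹ '' S = S := H.inv_mem k.2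
        have := Set.mem_image_of_mem (φ (k : Γ)⁻¹) hk
        rwa [hk', inv_apply] at this
      · intro ht
        exact (k.2 : φ (k : Γ) '' S = S) ▸ Set.mem_image_of_mem _ ht
    have hlt2 : Nat.card S < n := by
      rw [← hn, Nat.card_coe_set_eq, ← Set.ncard_univ]
      refine Set.ncard_lt_ncard (Set.ssubset_univ_iff.2 fun e => hy0 ?_)
      have hx0 : x0 ∈ S := e ▸ Set.mem_univ _
      rw [hBeq x x0 hx0]
      show y0 ∈ S
      rw [e]
      exact Set.mem_univ _
    obtain ⟨g', hg', rfl⟩ := le_map_res res_perfect hKH hg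
    exact congrArg Subtype.val (Equiv.congr_fun (ih _ hlt2 (Λ.sub H hKH hZH hEH)
      (onSet (φ.comp H.subtype) S hSinv) (fun s => (h s.1).imp Subtype.ext Subtype.ext) rfl g' hg')
      ⟨x, hBself x⟩)

end Cfsg.Agent.SDKeystone.NoTorus
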